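import Groth.Agent.CurvSt.K312.G2

/-!
# The gluing statements used for the boundary of `Mbar` (shapes of `K896.Bdry` and `K896.BdryConn`)
-/

set_option autoImplicit false
universe u
open CategoryTheory CategoryTheory.Limits AlgebraicGeometry TopologicalSpace

namespace K312.Boundary

open K312.Gl K312.Fam CurvSt K896.Glue

theorem haff {C T : Scheme.{u}} {f : C ⟶ T} (hf : RelProj.IsHProjective f) {a b : T ⟶ C} (ha : a ≫ f = 𝟙 T)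
    (hb : b ≫ f = 𝟙 T) (d : T) : ∃ U : C.Opens, IsAffineOpen U ∧ a d ∈ U ∧ b d ∈ U := by
  apply Aff.exists_affine_pair hf
  rw [← Scheme.Hom.comp_apply, ← Scheme.Hom.comp_apply, ha, hb]

/-- Change the marks of a stable family. -/
theorem isStableFam_congr {C T : Scheme.{u}} {f : C ⟶ T} {n g g' : ℕ} {x y : Fin n → (T ⟶ C)} {hx : ∀ i, x i ≫ f = 𝟙 T}
    {hy : ∀ i, y i ≫ f = 𝟙 T} (h : IsStableFam f x hx g) (e : ∀ i, x i = y i) (eg : g = g') :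
    IsStableFam f y hy g' := by
  obtain rfl : x = y := funext e
  subst eg
  exact h

/-- `K896.Bdry.G1Fam`. -/
theorem g1Fam {C T : Scheme.{u}} [IsLocallyNoetherian T] (f : C ⟶ T) (h : ℕ) (σ : Fin 2 → (T ⟶ C))
    (hσ : ∀ i, σ i ≫ f = 𝟙 T) (hst : IsStableFam f σ hσ h) (hp : RelProj.IsHProjective f) :
    ∃ (X : Scheme.{u}) (f₁ : X ⟶ T) (ν : C ⟶ X), ν ≫ f₁ = f ∧ UnivGlue f f₁ (σ 0) (σ 1) ν ∧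
      IsStableFam f₁ (fun i : Fin 0 => i.elim0) (fun i => i.elim0) (h + 1) := by
  obtain ⟨X, f₁, ν, hf, -, hU, hs⟩ := exists_glue (n := 0) hσ hst (a := 0) (b := 1) (by decide)
    (ρ := fun i : Fin 0 => i.elim0) (fun i => i.elim0) (fun i => i.elim0) (fun i => i.elim0) rfl
    (haff hp (hσ 0) (hσ 1))
  exact ⟨X, f₁, ν, hf, hU, isStableFam_congr hs (fun i => i.elim0) rfl⟩

/-- `K896.Bdry.G2Fam` (without projectivity). -/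
theorem g2Fam {C₁ C₂ T : Scheme.{u}} [IsLocallyNoetherian T] (f₁ : C₁ ⟶ T) (f₂ : C₂ ⟶ T) (h₁ h₂ : ℕ)
    (σ₁ : Fin 1 → (T ⟶ C₁)) (hσ₁ : ∀ i, σ₁ i ≫ f₁ = 𝟙 T) (σ₂ : Fin 1 → (T ⟶ C₂)) (hσ₂ : ∀ i, σ₂ i ≫ f₂ = 𝟙 T)
    (hst₁ : IsStableFam f₁ σ₁ hσ₁ h₁) (hst₂ : IsStableFam f₂ σ₂ hσ₂ h₂) :
    ∃ (X : Scheme.{u}) (f : X ⟶ T) (ν₁ : C₁ ⟶ X) (ν₂ : C₂ ⟶ X),
      ν₁ ≫ f = f₁ ∧ ν₂ ≫ f = f₂ ∧ UnivPush f₁ f₂ f (σ₁ 0) (σ₂ 0) ν₁ ν₂ ∧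
      IsStableFam f (fun i : Fin 0 => i.elim0) (fun i => i.elim0) (h₁ + h₂) := by
  obtain ⟨X, f, ν₁, ν₂, e1, e2, -, hU, hs⟩ := exists_push (n := 0) hσ₁ hσ₂ hst₁ hst₂ 0 0
    (ρ := fun i : Fin 0 => i.elim0) (fun i => i.elim0) (fun i => i.elim0) (fun i => i.elim0) rfl
  exact ⟨X, f, ν₁, ν₂, e1, e2, hU, isStableFam_congr hs (fun i => i.elim0) rfl⟩

/-- `K896.BdryConn.G1Pt` over any locally noetherian base. -/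
theorem g1Pt {C T : Scheme.{u}} [IsLocallyNoetherian T] (f : C ⟶ T) (h : ℕ) (σ : Fin 3 → (T ⟶ C))
    (hσ : ∀ i, σ i ≫ f = 𝟙 _) (hst : IsStableFam f σ hσ h) (hp : RelProj.IsHProjective f) :
    ∃ (X : Scheme.{u}) (f₁ : X ⟶ T) (ν : C ⟶ X) (τ : Fin 1 → (T ⟶ X)) (hτ : ∀ i, τ i ≫ f₁ = 𝟙 _), ν ≫ f₁ = f ∧
      UnivGlue f f₁ (σ 1) (σ 2) ν ∧ τ 0 = σ 0 ≫ ν ∧ IsStableFam f₁ τ hτ (h + 1) := by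
  obtain ⟨X, f₁, ν, hf, -, hU, hs⟩ := exists_glue (n := 1) hσ hst (a := 1) (b := 2) (by decide)
    (ρ := fun _ : Fin 1 => (0 : Fin 3)) (fun i j _ => Subsingleton.elim i j) (fun i => by decide) (fun i => by decide)
    rfl (haff hp (hσ 1) (hσ 2))
  exact ⟨X, f₁, ν, _, _, hf, hU, rfl, hs⟩

/-- `K896.BdryConn.G2Pt` over any locally noetherian base. -/
theorem g2Pt {C₁ C₂ T : Scheme.{u}} [IsLocallyNoetherian T] (f₁ : C₁ ⟶ T) (f₂ : C₂ ⟶ T) (h₁ h₂ : ℕ)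
    (σ₁ : Fin 3 → (T ⟶ C₁)) (hσ₁ : ∀ i, σ₁ i ≫ f₁ = 𝟙 _) (σ₂ : Fin 1 → (T ⟶ C₂)) (hσ₂ : ∀ i, σ₂ i ≫ f₂ = 𝟙 _)
    (hst₁ : IsStableFam f₁ σ₁ hσ₁ h₁) (hst₂ : IsStableFam f₂ σ₂ hσ₂ h₂) :
    ∃ (X : Scheme.{u}) (f : X ⟶ T) (ν₁ : C₁ ⟶ X) (ν₂ : C₂ ⟶ X) (τ : Fin 2 → (T ⟶ X)) (hτ : ∀ i, τ i ≫ f = 𝟙 _),
      ν₁ ≫ f = f₁ ∧ ν₂ ≫ f = f₂ ∧ UnivPush f₁ f₂ f (σ₁ 0) (σ₂ 0) ν₁ ν₂ ∧ τ 0 = σ₁ 1 ≫ ν₁ ∧ τ 1 = σ₁ 2 ≫ ν₁ ∧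
      IsStableFam f τ hτ (h₁ + h₂) := by
  obtain ⟨X, f, ν₁, ν₂, e1, e2, -, hU, hs⟩ := exists_push (n := 2) hσ₁ hσ₂ hst₁ hst₂ 0 0
    (ρ := ![Sum.inl 1, Sum.inl 2]) (by decide) (by decide) (by decide) rfl
  exact ⟨X, f, ν₁, ν₂, _, _, e1, e2, hU, rfl, rfl, hs⟩

/-- Clutching with a one-pointed family. -/
theorem exists_push_succ {C₁ C₂ T : Scheme.{u}} [IsLocallyNoetherian T] (f₁ : C₁ ⟶ T) (f₂ : C₂ ⟶ T) {n : ℕ}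
    (h₁ h₂ : ℕ) (σ₁ : Fin (n + 1) → (T ⟶ C₁)) (hσ₁ : ∀ i, σ₁ i ≫ f₁ = 𝟙 _) (σ₂ : Fin 1 → (T ⟶ C₂))
    (hσ₂ : ∀ i, σ₂ i ≫ f₂ = 𝟙 _) (hst₁ : IsStableFam f₁ σ₁ hσ₁ h₁) (hst₂ : IsStableFam f₂ σ₂ hσ₂ h₂) :
    ∃ (X : Scheme.{u}) (f : X ⟶ T) (ν₁ : C₁ ⟶ X) (ν₂ : C₂ ⟶ X) (h1 : ν₁ ≫ f = f₁),
      ν₂ ≫ f = f₂ ∧ UnivPush f₁ f₂ f (σ₁ 0) (σ₂ 0) ν₁ ν₂ ∧
      IsStableFam f (fun i : Fin n => σ₁ i.succ ≫ ν₁) (fun i => by rw [Category.assoc, h1, hσ₁]) (h₁ + h₂) := by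
  obtain ⟨X, f, ν₁, ν₂, e1, e2, -, hU, hs⟩ := exists_push (n := n) hσ₁ hσ₂ hst₁ hst₂ 0 0
    (ρ := fun i => Sum.inl i.succ) (fun i j hij => Fin.succ_injective _ (Sum.inl_injective hij))
    (fun i h => Fin.succ_ne_zero i (Sum.inl_injective h)) (fun i h => by cases h) rfl
  exact ⟨X, f, ν₁, ν₂, e1, e2, hU, hs⟩

end K312.Boundary
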