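import Groth.Agent.Mor.K383.FinAff
import Groth.Prelude.Def_RelProj
import Mathlib.AlgebraicGeometry.Limits

/-!
# Pairs of points in affine opens
-/

set_option autoImplicit false
universe u
open CategoryTheory CategoryTheory.Limits AlgebraicGeometry TopologicalSpace

namespace K312.Aff

/-- A finite set of points in a fibre of an H-projective morphism lies in an affine open. -/
theorem exists_affine_of_proj {C T : Scheme.{u}} {f : C ⟶ T} (hf : RelProj.IsHProjective f) (t : T) (E : Set C)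
    (hE : E.Finite) (hEt : ∀ x ∈ E, f x = t) : ∃ U : C.Opens, IsAffineOpen U ∧ E ⊆ U := by
  classical
  obtain ⟨n, i, hi, rfl⟩ := hf
  obtain ⟨T₀, hT₀, ht, -⟩ := exists_isAffineOpen_mem_and_subset (X := T) (x := t) (U := ⊤) trivial
  let W := CohB1.ProjSpaceOver.toBase n T ⁻¹ᵁ T₀
  let p : CohB1.ProjSpaceOver n T ⟶ CohB1.ProjSpace n (ULift.{u} ℤ) :=
    pullback.fst (CohB1.ProjSpace.toSpec n (ULift.{u} ℤ)) (specULiftZIsTerminal.from T)
  have sq1 : IsPullback W.ι (CohB1.ProjSpaceOver.toBase n T ∣_ T₀) (CohB1.ProjSpaceOver.toBase n T) T₀.ι :=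
    (isPullback_morphismRestrict (CohB1.ProjSpaceOver.toBase n T) T₀).flip
  have sq2 : IsPullback p (CohB1.ProjSpaceOver.toBase n T) (CohB1.ProjSpace.toSpec n (ULift.{u} ℤ))
      (specULiftZIsTerminal.from T) := IsPullback.of_hasPullback _ _
  have sq := sq1.paste_horiz sq2
  have hA : IsAffine T₀ := hT₀
  have i1 : IsAffineHom (T₀.ι ≫ specULiftZIsTerminal.from T) := inferInstance
  have i2 : IsAffineHom (W.ι ≫ p) := MorphismProperty.of_isPullback (P := @IsAffineHom) sq.flip i1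
  let j : (i ⁻¹ᵁ W).toScheme ⟶ CohB1.ProjSpace n (ULift.{u} ℤ) := (i ∣_ W) ≫ W.ι ≫ p
  have hj : IsAffineHom j := inferInstance
  have hmem : ∀ x ∈ E, x ∈ i ⁻¹ᵁ W := by
    intro x hx
    change CohB1.ProjSpaceOver.toBase n T (i x) ∈ T₀
    rw [← Scheme.Hom.comp_apply, hEt x hx]
    exact ht
  let F : Set (i ⁻¹ᵁ W).toScheme := (i ⁻¹ᵁ W).ι ⁻¹' E
  have hF : F.Finite := hE.preimage (i ⁻¹ᵁ W).ι.isOpenEmbedding.injective.injOn
  obtain ⟨V, hV, hsV, -⟩ := K383.FinAff.exists_affine_Proj (CohB1.polyGrading n (ULift.{u} ℤ)) ⊤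
    (hF.toFinset.image j) (fun _ _ => trivial)
  have hV' : IsAffineOpen (X := CohB1.ProjSpace n (ULift.{u} ℤ)) V := hV
  refine ⟨(i ⁻¹ᵁ W).ι ''ᵁ (j ⁻¹ᵁ V), (hV'.preimage j).image_of_isOpenImmersion _, fun x hx => ?_⟩
  refine ⟨⟨x, hmem x hx⟩, ?_, rfl⟩
  exact hsV _ (Finset.mem_image_of_mem _ (hF.mem_toFinset.2 hx))

/-- Two points in the same fibre. -/
theorem exists_affine_pair {C T : Scheme.{u}} {f : C ⟶ T} (hf : RelProj.IsHProjective f) {x y : C}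
    (hxy : f x = f y) : ∃ U : C.Opens, IsAffineOpen U ∧ x ∈ U ∧ y ∈ U := by
  obtain ⟨U, hU, h⟩ := exists_affine_of_proj hf (f y) {x, y} (by simp) (by
    rintro z (rfl | rfl)
    · exact hxy
    · rfl)
  exact ⟨U, hU, h (by simp), h (by simp)⟩

/-- Two affine opens in a coproduct. -/
theorem exists_affine_coprod {C₁ C₂ : Scheme.{u}} (x : C₁) (y : C₂) : ∃ U : (C₁ ⨿ C₂ : Scheme.{u}).Opens,
    IsAffineOpen U ∧ (coprod.inl : C₁ ⟶ (C₁ ⨿ C₂ : Scheme.{u})) x ∈ U ∧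
    (coprod.inr : C₂ ⟶ (C₁ ⨿ C₂ : Scheme.{u})) y ∈ U := by
  obtain ⟨U₁, hU₁, hx, -⟩ := exists_isAffineOpen_mem_and_subset (X := C₁) (x := x) (U := ⊤) trivial
  obtain ⟨U₂, hU₂, hy, -⟩ := exists_isAffineOpen_mem_and_subset (X := C₂) (x := y) (U := ⊤) trivial
  have h1 : IsAffine U₁ := hU₁
  have h2 : IsAffine U₂ := hU₂
  let e : (U₁.toScheme ⨿ U₂.toScheme : Scheme.{u}) ⟶ (C₁ ⨿ C₂ : Scheme.{u}) := coprod.map U₁.ι U₂.ι
  have he : IsOpenImmersion e := inferInstance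
  refine ⟨e.opensRange, isAffineOpen_opensRange e, ?_, ?_⟩
  · let x' : U₁.toScheme := ⟨x, hx⟩
    refine ⟨(coprod.inl : U₁.toScheme ⟶ _) x', ?_⟩
    change (coprod.map U₁.ι U₂.ι) ((coprod.inl : U₁.toScheme ⟶ (U₁.toScheme ⨿ U₂.toScheme : Scheme.{u})) x') = _
    rw [← Scheme.Hom.comp_apply, coprod.inl_map, Scheme.Hom.comp_apply]
    rfl
  · let y' : U₂.toScheme := ⟨y, hy⟩
    refine ⟨(coprod.inr : U₂.toScheme ⟶ _) y', ?_⟩
    change (coprod.map U₁.ι U₂.ι) ((coprod.inr : U₂.toScheme ⟶ (U₁.toScheme ⨿ U₂.toScheme : Scheme.{u})) y') = _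
    rw [← Scheme.Hom.comp_apply, coprod.inr_map, Scheme.Hom.comp_apply]
    rfl

end K312.Aff
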