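import Groth.Agent.CurvSt.K312.Gl

/-!
# Sections of a glueing, and closed subschemes meeting only one branch
-/

set_option autoImplicit false
universe u
open CategoryTheory CategoryTheory.Limits AlgebraicGeometry TopologicalSpace

namespace K312.Gl

open K838.Ferr

/-- Sections over an open of a coproduct are determined by their restrictions. -/
theorem coprod_ext {X Y : Scheme.{u}} {V : (X ⨿ Y : Scheme.{u}).Opens} {x y : Γ((X ⨿ Y : Scheme.{u}), V)}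
    (h1 : (coprod.inl : X ⟶ (X ⨿ Y : Scheme.{u})).app V x = (coprod.inl : X ⟶ (X ⨿ Y : Scheme.{u})).app V y)
    (h2 : (coprod.inr : Y ⟶ (X ⨿ Y : Scheme.{u})).app V x = (coprod.inr : Y ⟶ (X ⨿ Y : Scheme.{u})).app V y) :
    x = y := by
  refine TopCat.Presheaf.section_ext (X ⨿ Y : Scheme.{u}).sheaf V x y fun z hz => ?_
  change (X ⨿ Y : Scheme.{u}).presheaf.germ V z hz x = (X ⨿ Y : Scheme.{u}).presheaf.germ V z hz y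
  obtain ⟨(p | p), rfl⟩ := (coprodMk X Y).surjective z
  · have hp : coprodMk X Y (Sum.inl p) = (coprod.inl : X ⟶ (X ⨿ Y : Scheme.{u})) p := coprodMk_inl _ _ _
    have key : ∀ (z : (X ⨿ Y : Scheme.{u})) (hz : z ∈ V), z = (coprod.inl : X ⟶ (X ⨿ Y : Scheme.{u})) p →
        (X ⨿ Y : Scheme.{u}).presheaf.germ V z hz x = (X ⨿ Y : Scheme.{u}).presheaf.germ V z hz y := by
      rintro _ hz rfl
      have hinj : Function.Injective ((coprod.inl : X ⟶ (X ⨿ Y : Scheme.{u})).stalkMap p) :=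
        ((ConcreteCategory.isIso_iff_bijective _).mp inferInstance).1
      apply hinj
      rw [Scheme.Hom.germ_stalkMap_apply, Scheme.Hom.germ_stalkMap_apply, h1]
    exact key _ hz hp
  · have hp : coprodMk X Y (Sum.inr p) = (coprod.inr : Y ⟶ (X ⨿ Y : Scheme.{u})) p := coprodMk_inr _ _ _
    have key : ∀ (z : (X ⨿ Y : Scheme.{u})) (hz : z ∈ V), z = (coprod.inr : Y ⟶ (X ⨿ Y : Scheme.{u})) p →
        (X ⨿ Y : Scheme.{u}).presheaf.germ V z hz x = (X ⨿ Y : Scheme.{u}).presheaf.germ V z hz y := by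
      rintro _ hz rfl
      have hinj : Function.Injective ((coprod.inr : Y ⟶ (X ⨿ Y : Scheme.{u})).stalkMap p) :=
        ((ConcreteCategory.isIso_iff_bijective _).mp inferInstance).1
      apply hinj
      rw [Scheme.Hom.germ_stalkMap_apply, Scheme.Hom.germ_stalkMap_apply, h2]
    exact key _ hz hp

variable {D C C' : Scheme.{u}} {σ τ : D ⟶ C} {ν : C ⟶ C'}

/-- composition of pull backs of functions -/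
theorem appLE2 {A B E : Scheme.{u}} (f : A ⟶ B) (g : B ⟶ E) (m : A ⟶ E) (h : f ≫ g = m) (U : E.Opens) (V : B.Opens)
    (W : A.Opens) (e₁ : V ≤ g ⁻¹ᵁ U) (e₂ : W ≤ f ⁻¹ᵁ V) (e₃ : W ≤ m ⁻¹ᵁ U) (x : Γ(E, U)) :
    f.appLE V W e₂ (g.appLE U V e₁ x) = m.appLE U W e₃ x := by
  subst h
  exact K896.Ferr.appLE_appLE_apply f g U V W e₁ e₂ e₃ x

theorem id_appLE {A : Scheme.{u}} (V : A.Opens) (e : V ≤ (𝟙 A : A ⟶ A) ⁻¹ᵁ V) (x : Γ(A, V)) :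
    (𝟙 A : A ⟶ A).appLE V V e x = x := by
  have h : (𝟙 A : A ⟶ A).appLE V V e = 𝟙 _ := by
    rw [Scheme.Hom.appLE]
    exact (Category.id_comp _).trans (A.presheaf.map_id _)
  rw [h]
  rfl

theorem le_left (σ : D ⟶ C) (ν : C ⟶ C') (O : C'.Opens) : (σ ≫ ν) ⁻¹ᵁ O ≤ σ ⁻¹ᵁ ν ⁻¹ᵁ O := le_rfl

theorem le_right (w : σ ≫ ν = τ ≫ ν) (O : C'.Opens) : (σ ≫ ν) ⁻¹ᵁ O ≤ τ ⁻¹ᵁ ν ⁻¹ᵁ O := by
  rw [w]; exact le_rfl

theorem ge_right (w : σ ≫ ν = τ ≫ ν) (O : C'.Opens) : τ ⁻¹ᵁ ν ⁻¹ᵁ O ≤ (σ ≫ ν) ⁻¹ᵁ O := by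
  rw [w]; exact le_rfl

theorem inl_le (O : C'.Opens) :
    (coprod.inl : D ⟶ (D ⨿ D : Scheme.{u})) ⁻¹ᵁ coprod.desc σ τ ⁻¹ᵁ ν ⁻¹ᵁ O = σ ⁻¹ᵁ ν ⁻¹ᵁ O := by
  rw [← Scheme.Hom.comp_preimage, coprod.inl_desc]

theorem inr_le (O : C'.Opens) :
    (coprod.inr : D ⟶ (D ⨿ D : Scheme.{u})) ⁻¹ᵁ coprod.desc σ τ ⁻¹ᵁ ν ⁻¹ᵁ O = τ ⁻¹ᵁ ν ⁻¹ᵁ O := by
  rw [← Scheme.Hom.comp_preimage, coprod.inr_desc]

/-- The condition on sections in terms of the two closed immersions. -/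
theorem desc_app_eq (w : σ ≫ ν = τ ≫ ν) (w' : coprod.desc σ τ ≫ ν = fold D ≫ (σ ≫ ν)) (O : C'.Opens)
    (s : Γ(C, ν ⁻¹ᵁ O)) (t : Γ(D, (σ ≫ ν) ⁻¹ᵁ O))
    (h1 : σ.appLE (ν ⁻¹ᵁ O) ((σ ≫ ν) ⁻¹ᵁ O) (le_left σ ν O) s = t)
    (h2 : τ.appLE (ν ⁻¹ᵁ O) ((σ ≫ ν) ⁻¹ᵁ O) (le_right w O) s = t) :
    (coprod.desc σ τ).app (ν ⁻¹ᵁ O) s = (fold D).appLE ((σ ≫ ν) ⁻¹ᵁ O) (coprod.desc σ τ ⁻¹ᵁ ν ⁻¹ᵁ O)
      (preimage_eq w' O).le t := by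
  apply coprod_ext
  · rw [Scheme.Hom.app_eq_appLE, Scheme.Hom.app_eq_appLE]
    have e := (inl_le (σ := σ) (τ := τ) (ν := ν) O).le
    have e' : (coprod.inl : D ⟶ (D ⨿ D : Scheme.{u})) ⁻¹ᵁ coprod.desc σ τ ⁻¹ᵁ ν ⁻¹ᵁ O ≤
      (𝟙 D : D ⟶ D) ⁻¹ᵁ ((σ ≫ ν) ⁻¹ᵁ O) := e
    refine (appLE2 coprod.inl (coprod.desc σ τ) σ (coprod.inl_desc _ _) _ _ _ _ _ e s).trans ?_
    refine Eq.trans ?_ (appLE2 coprod.inl (fold D) (𝟙 D) (coprod.inl_desc _ _) _ _ _ _ _ e' t).symm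
    rw [← h1]
    exact (appLE2 (𝟙 D) σ σ (Category.id_comp _) _ _ _ _ _ e s).symm
  · rw [Scheme.Hom.app_eq_appLE, Scheme.Hom.app_eq_appLE]
    have e := (inr_le (σ := σ) (τ := τ) (ν := ν) O).le
    have e' : (coprod.inr : D ⟶ (D ⨿ D : Scheme.{u})) ⁻¹ᵁ coprod.desc σ τ ⁻¹ᵁ ν ⁻¹ᵁ O ≤
      (𝟙 D : D ⟶ D) ⁻¹ᵁ ((σ ≫ ν) ⁻¹ᵁ O) := e.trans (ge_right w O)
    refine (appLE2 coprod.inr (coprod.desc σ τ) τ (coprod.inr_desc _ _) _ _ _ _ _ e s).trans ?_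
    refine Eq.trans ?_ (appLE2 coprod.inr (fold D) (𝟙 D) (coprod.inr_desc _ _) _ _ _ _ _ e' t).symm
    rw [← h2]
    exact (appLE2 (𝟙 D) τ τ (Category.id_comp _) _ _ _ _ _ e s).symm

/-- Functions with the same values along both closed immersions descend. -/
theorem IsGl.exists_app_eq (h : IsGl σ τ ν) (O : C'.Opens) (s : Γ(C, ν ⁻¹ᵁ O))
    (hs : τ.appLE (ν ⁻¹ᵁ O) ((σ ≫ ν) ⁻¹ᵁ O) (le_right h.w O) s =
      σ.appLE (ν ⁻¹ᵁ O) ((σ ≫ ν) ⁻¹ᵁ O) (le_left σ ν O) s) : ∃ r : Γ(C', O), ν.app O r = s := by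
  obtain ⟨r, hr, -⟩ := ((secSq_iff h.ferr.w O).mp (h.ferr.sec O)).1 s _ (desc_app_eq h.w h.ferr.w O s _ rfl hs)
  exact ⟨r, hr⟩

theorem IsGl.app_eq (h : IsGl σ τ ν) (O : C'.Opens) (r : Γ(C', O)) :
    τ.appLE (ν ⁻¹ᵁ O) ((σ ≫ ν) ⁻¹ᵁ O) (le_right h.w O) (ν.app O r) =
      σ.appLE (ν ⁻¹ᵁ O) ((σ ≫ ν) ⁻¹ᵁ O) (le_left σ ν O) (ν.app O r) := by
  rw [Scheme.Hom.app_eq_appLE]
  exact (appLE2 τ ν (σ ≫ ν) h.w.symm _ _ _ _ _ le_rfl r).trans (appLE2 σ ν (σ ≫ ν) rfl _ _ _ _ _ le_rfl r).symm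

/-- Criterion for a glueing. -/
theorem IsGl.of_cover (hcl : IsClosedImmersion (coprod.desc σ τ)) (hν : IsAffineHom ν) (w : σ ≫ ν = τ ≫ ν)
    (haff : IsAffineHom (σ ≫ ν))
    (H : ∀ x : C', ∃ O : C'.Opens, x ∈ O ∧ IsAffineOpen O ∧ Function.Injective (ν.app O) ∧
      ∀ s : Γ(C, ν ⁻¹ᵁ O), τ.appLE (ν ⁻¹ᵁ O) ((σ ≫ ν) ⁻¹ᵁ O) (le_right w O) s =
        σ.appLE (ν ⁻¹ᵁ O) ((σ ≫ ν) ⁻¹ᵁ O) (le_left σ ν O) s → ∃ r : Γ(C', O), ν.app O r = s) : IsGl σ τ ν := by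
  have w' : coprod.desc σ τ ≫ ν = fold D ≫ (σ ≫ ν) := by
    apply coprod.hom_ext
    · rw [coprod.inl_desc_assoc, coprod.inl_desc_assoc, Category.id_comp]
    · rw [coprod.inr_desc_assoc, coprod.inr_desc_assoc, Category.id_comp, w]
  refine ⟨isFerr_of_isPushout (isPushout_of_cover w' fun x => ?_)⟩
  obtain ⟨O, hx, hO, hinj, hex⟩ := H x
  refine ⟨O, hx, hO, (secSq_iff w' O).mpr ⟨fun s t hst => ?_, fun r r' h1 _ => hinj h1⟩⟩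
  have h1 : σ.appLE (ν ⁻¹ᵁ O) ((σ ≫ ν) ⁻¹ᵁ O) (le_left σ ν O) s = t := by
    have e : (σ ≫ ν) ⁻¹ᵁ O ≤ (coprod.inl : D ⟶ (D ⨿ D : Scheme.{u})) ⁻¹ᵁ coprod.desc σ τ ⁻¹ᵁ ν ⁻¹ᵁ O := by
      rw [inl_le]; exact le_rfl
    have h2 := congrArg ((coprod.inl : D ⟶ (D ⨿ D : Scheme.{u})).appLE (coprod.desc σ τ ⁻¹ᵁ ν ⁻¹ᵁ O) ((σ ≫ ν) ⁻¹ᵁ O) e) hst
    rw [Scheme.Hom.app_eq_appLE] at h2
    have h3 := (appLE2 coprod.inl (coprod.desc σ τ) σ (coprod.inl_desc _ _) _ _ _ _ e (le_left σ ν O) s).symm.trans h2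
    have h4 := h3.trans (appLE2 coprod.inl (fold D) (𝟙 D) (coprod.inl_desc _ _) _ _ _ _ _ le_rfl t)
    exact h4.trans (id_appLE _ _ _)
  have h1' : τ.appLE (ν ⁻¹ᵁ O) ((σ ≫ ν) ⁻¹ᵁ O) (le_right w O) s = t := by
    have e : (σ ≫ ν) ⁻¹ᵁ O ≤ (coprod.inr : D ⟶ (D ⨿ D : Scheme.{u})) ⁻¹ᵁ coprod.desc σ τ ⁻¹ᵁ ν ⁻¹ᵁ O := by
      rw [inr_le]; exact le_right w O
    have h2 := congrArg ((coprod.inr : D ⟶ (D ⨿ D : Scheme.{u})).appLE (coprod.desc σ τ ⁻¹ᵁ ν ⁻¹ᵁ O) ((σ ≫ ν) ⁻¹ᵁ O) e) hst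
    rw [Scheme.Hom.app_eq_appLE] at h2
    have h3 := (appLE2 coprod.inr (coprod.desc σ τ) τ (coprod.inr_desc _ _) _ _ _ _ e (le_right w O) s).symm.trans h2
    have h4 := h3.trans (appLE2 coprod.inr (fold D) (𝟙 D) (coprod.inr_desc _ _) _ _ _ _ _ le_rfl t)
    exact h4.trans (id_appLE _ _ _)
  obtain ⟨r, hr⟩ := hex s (h1'.trans h1.symm)
  refine ⟨r, hr, ?_⟩
  rw [Scheme.Hom.app_eq_appLE]
  have h5 := appLE2 σ ν (σ ≫ ν) rfl O (ν ⁻¹ᵁ O) ((σ ≫ ν) ⁻¹ᵁ O) le_rfl (le_left σ ν O) le_rfl r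
  rw [← Scheme.Hom.app_eq_appLE ν, hr, h1] at h5
  exact h5.symm

theorem IsGl.symm (h : IsGl σ τ ν) : IsGl τ σ ν := by
  have hcl := h.closed
  have haff := h.isAffineHom
  have hb := h.ferr.affine_right
  have h1 : IsClosedImmersion (coprod.desc τ σ) :=
    isClosedImmersion_desc h.closed_right h.closed_left fun d e => (h.ne e d).symm
  refine IsGl.of_cover h1 haff h.w.symm (by rw [← h.w]; exact hb) fun x => ?_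
  obtain ⟨O, hO, hx, -⟩ := exists_isAffineOpen_mem_and_subset (X := C') (x := x) (U := ⊤) trivial
  refine ⟨O, hx, hO, h.injective_app O, fun s hs => ?_⟩
  apply h.exists_app_eq
  have key : ∀ (V V' : D.Opens) (hV : V = V') (h1 : V ≤ σ ⁻¹ᵁ ν ⁻¹ᵁ O) (h2 : V ≤ τ ⁻¹ᵁ ν ⁻¹ᵁ O)
      (h1' : V' ≤ σ ⁻¹ᵁ ν ⁻¹ᵁ O) (h2' : V' ≤ τ ⁻¹ᵁ ν ⁻¹ᵁ O),
      σ.appLE (ν ⁻¹ᵁ O) V h1 s = τ.appLE (ν ⁻¹ᵁ O) V h2 s →
      σ.appLE (ν ⁻¹ᵁ O) V' h1' s = τ.appLE (ν ⁻¹ᵁ O) V' h2' s := by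
    rintro V _ rfl _ _ _ _ h; exact h
  exact (key _ _ (by rw [h.w]) _ _ _ _ hs).symm

section Closed

variable {P Q : Scheme.{u}}

/-- Disjoint closed subschemes are comaximal on affine opens. -/
theorem exists_unit (e : P ⟶ C) (f : Q ⟶ C) [IsClosedImmersion e] [IsClosedImmersion f]
    (h : ∀ p q, e p ≠ f q) {U : C.Opens} (hU : IsAffineOpen U) :
    ∃ u : Γ(C, U), e.app U u = 0 ∧ f.app U u = 1 := by
  have h1 : (e.ker ⊔ f.ker).support = ⊥ := by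
    rw [Scheme.IdealSheafData.support_sup]
    ext x
    simp only [Closeds.coe_inf, Scheme.Hom.support_ker, Closeds.coe_bot, Set.mem_inter_iff, Set.mem_empty_iff_false,
      iff_false, not_and]
    rw [e.isClosedEmbedding.isClosed_range.closure_eq, f.isClosedEmbedding.isClosed_range.closure_eq]
    rintro ⟨p, rfl⟩ ⟨q, hq⟩
    exact h p q hq.symm
  have h2 : e.ker ⊔ f.ker = ⊤ := (Scheme.IdealSheafData.support_eq_bot_iff _).mp h1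
  have h3 : (e.ker ⊔ f.ker).ideal ⟨U, hU⟩ = ⊤ := by rw [h2]; rfl
  rw [Scheme.IdealSheafData.ideal_sup, Pi.sup_apply, Scheme.Hom.ker_apply, Scheme.Hom.ker_apply] at h3
  obtain ⟨u, hu, v, hv, huv⟩ := Submodule.mem_sup.mp ((Ideal.eq_top_iff_one _).mp h3)
  refine ⟨u, hu, ?_⟩
  have h4 : f.app U v = 0 := hv
  have h5 : u = 1 - v := by rw [← huv]; ring
  rw [h5, map_sub, map_one, h4, sub_zero]

/-- A closed subscheme through one of the branches only stays closed. -/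
theorem IsGl.isClosedImmersion_comp (h : IsGl σ τ ν) (e : P ⟶ C) [IsClosedImmersion e] (s : D ⟶ P)
    (hs : s ≫ e = σ) (hτ : ∀ p d, e p ≠ τ d) : IsClosedImmersion (e ≫ ν) := by
  have haff := h.isAffineHom
  have h1 := h.closed_right
  rw [isClosedImmersion_iff_isAffineHom]
  refine ⟨inferInstance, fun O hO g => ?_⟩
  have hU : IsAffineOpen (ν ⁻¹ᵁ O) := hO.preimage ν
  obtain ⟨f₀, hf₀⟩ := e.app_surjective (ν ⁻¹ᵁ O) hU g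
  obtain ⟨u, hu1, hu2⟩ := exists_unit e τ hτ hU
  have hle : (σ ≫ ν) ⁻¹ᵁ O ≤ τ ⁻¹ᵁ ν ⁻¹ᵁ O := le_right h.w O
  have hsurj : Function.Surjective (τ.appLE (ν ⁻¹ᵁ O) ((σ ≫ ν) ⁻¹ᵁ O) hle) := by
    have key : ∀ (V : D.Opens) (hV : V = τ ⁻¹ᵁ ν ⁻¹ᵁ O), Function.Surjective (τ.appLE (ν ⁻¹ᵁ O) V hV.le) := by
      rintro _ rfl
      rw [← Scheme.Hom.app_eq_appLE]
      exact τ.app_surjective _ hU
    exact key _ (by rw [h.w]; rfl)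
  have hu3 : τ.appLE (ν ⁻¹ᵁ O) ((σ ≫ ν) ⁻¹ᵁ O) hle u = 1 := by
    rw [Scheme.Hom.appLE, ConcreteCategory.comp_apply, hu2, map_one]
  obtain ⟨v, hv⟩ := hsurj (σ.appLE (ν ⁻¹ᵁ O) ((σ ≫ ν) ⁻¹ᵁ O) (le_left σ ν O) f₀ -
    τ.appLE (ν ⁻¹ᵁ O) ((σ ≫ ν) ⁻¹ᵁ O) hle f₀)
  have he : e.app (ν ⁻¹ᵁ O) (f₀ + u * v) = g := by
    rw [map_add, map_mul, hu1, zero_mul, add_zero, hf₀]
  have hσ : σ.appLE (ν ⁻¹ᵁ O) ((σ ≫ ν) ⁻¹ᵁ O) (le_left σ ν O) (f₀ + u * v) =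
      σ.appLE (ν ⁻¹ᵁ O) ((σ ≫ ν) ⁻¹ᵁ O) (le_left σ ν O) f₀ := by
    have e1 : (σ ≫ ν) ⁻¹ᵁ O ≤ s ⁻¹ᵁ e ⁻¹ᵁ ν ⁻¹ᵁ O := by
      rw [← Scheme.Hom.comp_preimage s, hs]; exact le_left σ ν O
    have h3 : σ.appLE (ν ⁻¹ᵁ O) ((σ ≫ ν) ⁻¹ᵁ O) (le_left σ ν O) u = 0 := by
      have h4 := appLE2 s e σ hs (ν ⁻¹ᵁ O) (e ⁻¹ᵁ ν ⁻¹ᵁ O) ((σ ≫ ν) ⁻¹ᵁ O) le_rfl e1 (le_left σ ν O) u
      rw [← Scheme.Hom.app_eq_appLE e, hu1, map_zero] at h4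
      exact h4.symm
    rw [map_add, map_mul, h3, zero_mul, add_zero]
  obtain ⟨r, hr⟩ := h.exists_app_eq O (f₀ + u * v) (by
    rw [hσ, map_add, map_mul, hu3, one_mul, hv, add_sub_cancel])
  exact ⟨r, by rw [K896.Ferr.app_comp_apply, hr]; exact he⟩

/-- A closed subscheme away from the glued locus stays closed. -/
theorem IsGl.isClosedImmersion_comp' (h : IsGl σ τ ν) (e : P ⟶ C) [IsClosedImmersion e]
    (hσ : ∀ p d, e p ≠ σ d) (hτ : ∀ p d, e p ≠ τ d) : IsClosedImmersion (e ≫ ν) := by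
  have haff := h.isAffineHom
  have h1 := h.closed_right
  have h1' := h.closed_left
  rw [isClosedImmersion_iff_isAffineHom]
  refine ⟨inferInstance, fun O hO g => ?_⟩
  have hU : IsAffineOpen (ν ⁻¹ᵁ O) := hO.preimage ν
  obtain ⟨f₀, hf₀⟩ := e.app_surjective (ν ⁻¹ᵁ O) hU g
  obtain ⟨u, hu1, hu2⟩ := exists_unit e τ hτ hU
  obtain ⟨v, hv1, hv2⟩ := exists_unit e σ hσ hU
  have hle : (σ ≫ ν) ⁻¹ᵁ O ≤ τ ⁻¹ᵁ ν ⁻¹ᵁ O := le_right h.w O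
  have e1 : e.app (ν ⁻¹ᵁ O) ((1 - u) * (1 - v) * f₀) = g := by
    rw [map_mul, map_mul, map_sub, map_sub, hu1, hv1, map_one, sub_zero, one_mul, one_mul, hf₀]
  have e2 : σ.appLE (ν ⁻¹ᵁ O) ((σ ≫ ν) ⁻¹ᵁ O) (le_left σ ν O) ((1 - u) * (1 - v) * f₀) = 0 := by
    have hv3 : σ.appLE (ν ⁻¹ᵁ O) ((σ ≫ ν) ⁻¹ᵁ O) (le_left σ ν O) v = 1 := by
      rw [Scheme.Hom.appLE, ConcreteCategory.comp_apply, hv2, map_one]
    rw [map_mul, map_mul, map_sub _ 1 v, map_one, hv3, sub_self, mul_zero, zero_mul]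
  have e3 : τ.appLE (ν ⁻¹ᵁ O) ((σ ≫ ν) ⁻¹ᵁ O) hle ((1 - u) * (1 - v) * f₀) = 0 := by
    have hu3 : τ.appLE (ν ⁻¹ᵁ O) ((σ ≫ ν) ⁻¹ᵁ O) hle u = 1 := by
      rw [Scheme.Hom.appLE, ConcreteCategory.comp_apply, hu2, map_one]
    rw [map_mul, map_mul, map_sub _ 1 u, map_one, hu3, sub_self, zero_mul, zero_mul]
  obtain ⟨r, hr⟩ := h.exists_app_eq O _ (e3.trans e2.symm)
  exact ⟨r, by rw [K896.Ferr.app_comp_apply, hr]; exact e1⟩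

end Closed

end K312.Gl
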