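import Groth.Agent.CurvSt.K312.GlTop
import Groth.Agent.CurvSt.K312.GlSec
import Groth.Agent.Models.H74.CohSide
import Groth.Agent.Vancyc.H241.CohSplit
import Groth.Agent.CurvesC.DegIso
import Groth.Agent.Ega1.CDLift
import Groth.Agent.Fdesc.StructMod

/-!
# The Euler characteristic of a glueing
-/

set_option autoImplicit false
universe u
open CategoryTheory CategoryTheory.Limits AlgebraicGeometry TopologicalSpace Module

namespace K312.Chi

open K312.Gl Groth.Agent Groth.Agent.CurvesB Groth.Agent.Models.H74.EvIdeal Groth.Agent.Models.H74.CohSeq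
  Groth.Agent.Models.H74.CohLin

/-- The Euler characteristic of the structure sheaf. -/
noncomputable def chi (k : Type u) [Field k] {X : Scheme.{u}} (q : X ⟶ Spec (CommRingCat.of k)) : ℤ :=
  @Curv2.euler k _ X ⟨q⟩ (Coh.structureModule X)

section Quot

variable {k : Type u} [Field k]

theorem appLE_str {X Y : Scheme.{u}} (g : Y ⟶ X) (f : X ⟶ Spec (CommRingCat.of k)) (m : Y ⟶ Spec (CommRingCat.of k))
    (hm : g ≫ f = m) (V : X.Opens) (W : Y.Opens) (e : W ≤ g ⁻¹ᵁ V) (c : k) :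
    g.appLE V W e (str f V c) = str m W c := by
  subst hm
  rw [Scheme.Hom.appLE, ConcreteCategory.comp_apply, app_str]
  exact str_res _ _ _

theorem surjective_str (W : (Spec (CommRingCat.of k)).Opens) (hW : W = ⊤) :
    Function.Surjective (str (𝟙 (Spec (CommRingCat.of k))) W) := by
  subst hW
  intro y
  refine ⟨(Scheme.ΓSpecIso (CommRingCat.of k)).hom y, ?_⟩
  change (Spec (CommRingCat.of k)).presheaf.map (homOfLE (le_top (a := (⊤ : (Spec (CommRingCat.of k)).Opens)))).op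
    ((𝟙 (Spec (CommRingCat.of k)) : _ ⟶ _).appTop.hom ((Scheme.ΓSpecIso (CommRingCat.of k)).inv.hom
      ((Scheme.ΓSpecIso (CommRingCat.of k)).hom y))) = y
  have h1 : (Scheme.ΓSpecIso (CommRingCat.of k)).inv.hom ((Scheme.ΓSpecIso (CommRingCat.of k)).hom y) = y :=
    congr($((Scheme.ΓSpecIso (CommRingCat.of k)).hom_inv_id) y)
  rw [h1]
  exact congr($((Spec (CommRingCat.of k)).presheaf.map_id _) y)

variable {X X' : Scheme.{u}} {σ τ : Spec (CommRingCat.of k) ⟶ X} {ν : X ⟶ X'}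

theorem finrank_quot (h : IsGl σ τ ν) (f : X' ⟶ Spec (CommRingCat.of k)) (hσ : σ ≫ ν ≫ f = 𝟙 _)
    (d : Spec (CommRingCat.of k)) (V : X'.Opens) (hV : IsAffineOpen V) (hp : ν (σ d) ∈ V) :
    letI := algSec f V
    letI := algSec (ν ≫ f) (ν ⁻¹ᵁ V)
    finrank k (Γ(X, ν ⁻¹ᵁ V) ⧸ LinearMap.range (φ ν f V).toLinearMap) = 1 := by
  let _ := algSec f V
  let _ := algSec (ν ≫ f) (ν ⁻¹ᵁ V)
  have haff := h.isAffineHom
  have hsub : Subsingleton (Spec (CommRingCat.of k)) := inferInstanceAs (Subsingleton (PrimeSpectrum k))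
  have hcl := h.closed_right
  have hcl' := h.closed_left
  have hτ : τ ≫ ν ≫ f = 𝟙 _ := by rw [← Category.assoc, ← h.w, Category.assoc, hσ]
  have hW : (σ ≫ ν) ⁻¹ᵁ V = ⊤ := by
    ext s
    simp only [Opens.coe_top, Set.mem_univ, iff_true]
    rw [Subsingleton.elim s d]
    change (σ ≫ ν) d ∈ V
    rwa [Scheme.Hom.comp_apply]
  have hsurj := surjective_str _ hW
  have hU : IsAffineOpen (ν ⁻¹ᵁ V) := hV.preimage ν
  obtain ⟨u, hu1, hu2⟩ := exists_unit σ τ h.ne hU
  let sσ := σ.appLE (ν ⁻¹ᵁ V) ((σ ≫ ν) ⁻¹ᵁ V) (le_left σ ν V)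
  let sτ := τ.appLE (ν ⁻¹ᵁ V) ((σ ≫ ν) ⁻¹ᵁ V) (le_right h.w V)
  have hu3 : sτ u = 1 := by
    change τ.appLE _ _ _ u = 1
    rw [Scheme.Hom.appLE, ConcreteCategory.comp_apply, hu2, map_one]
  have hu4 : sσ u = 0 := by
    change σ.appLE _ _ _ u = 0
    rw [Scheme.Hom.appLE, ConcreteCategory.comp_apply, hu1, map_zero]
  have hne : (1 : Γ(Spec (CommRingCat.of k), (σ ≫ ν) ⁻¹ᵁ V)) ≠ 0 := by
    have hn : Nonempty ((σ ≫ ν) ⁻¹ᵁ V : (Spec (CommRingCat.of k)).Opens) := ⟨⟨d, by rw [hW]; trivial⟩⟩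
    exact one_ne_zero
  rw [finrank_eq_one_iff']
  refine ⟨Submodule.Quotient.mk u, ?_, fun w => ?_⟩
  · rw [Ne, Submodule.Quotient.mk_eq_zero]
    rintro ⟨r, hr⟩
    have hr' : ν.app V r = u := hr
    have h1 := h.app_eq V r
    rw [hr'] at h1
    exact hne (hu3.symm.trans (h1.trans hu4))
  · obtain ⟨g, rfl⟩ := Submodule.Quotient.mk_surjective _ w
    obtain ⟨c, hc⟩ := hsurj (sτ g - sσ g)
    refine ⟨c, ?_⟩
    rw [← Submodule.Quotient.mk_smul, Submodule.Quotient.eq]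
    have hsm : c • u = str (ν ≫ f) (ν ⁻¹ᵁ V) c * u := rfl
    have h1 : sτ (c • u) = sτ g - sσ g := by
      rw [hsm, map_mul, hu3, mul_one, ← hc]
      exact appLE_str τ (ν ≫ f) (𝟙 _) hτ _ _ _ c
    have h2 : sσ (c • u) = 0 := by
      rw [hsm, map_mul, hu4, mul_zero]
    obtain ⟨r, hr⟩ := h.exists_app_eq V (c • u - g) (by
      change sτ (c • u - g) = sσ (c • u - g)
      rw [map_sub, map_sub, h1, h2]
      ring)
    exact ⟨r, hr⟩

end Quot

section Main

theorem dense_off {D C C' : Scheme.{u}} {σ τ : D ⟶ C} {ν : C ⟶ C'} (h : IsGl σ τ ν) (hoff : h.Off) :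
    Dense (h.off : Set C') := by
  intro x'
  obtain ⟨z, hz, hzx⟩ := Groth.Agent.CurvesB.DimOneTop.exists_generic_specializes x'
  obtain ⟨w, hw, rfl⟩ := h.exists_gen_preimage hz
  rw [specializes_iff_mem_closure] at hzx
  exact closure_mono (Set.singleton_subset_iff.mpr (hoff w hw)) hzx

variable {k : Type u} [Field k] {X X' : Scheme.{u}} {σ τ : Spec (CommRingCat.of k) ⟶ X} {ν : X ⟶ X'}

/-- `χ(X') = χ(X) - 1`. -/
theorem chi_gl (h : IsGl σ τ ν) (q : X ⟶ Spec (CommRingCat.of k)) (q' : X' ⟶ Spec (CommRingCat.of k)) [IsProper q]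
    [IsProper q'] [IsReduced X'] (hdim : topologicalKrullDim X ≤ 1) (hdim' : topologicalKrullDim X' ≤ 1)
    (hoff : h.Off) (hq : ν ≫ q' = q)
    (hσ : σ ≫ q = 𝟙 _) : chi k q' = chi k q - 1 := by
  let _ : X.Over (Spec (CommRingCat.of k)) := ⟨q⟩
  let _ : X'.Over (Spec (CommRingCat.of k)) := ⟨q'⟩
  have : IsProper (X ↘ (Spec (CommRingCat.of k))) := ‹IsProper q›
  have : IsProper (X' ↘ (Spec (CommRingCat.of k))) := ‹IsProper q'›
  have hN : IsNoetherian X' := GenusLib.isNoetherian_of_proper (X' ↘ Spec (CommRingCat.of k))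
  have hfin := h.isFinite
  have hiso := h.isIso_off
  have hd := dense_off h hoff
  have hq' : ν ≫ (X' ↘ Spec (CommRingCat.of k)) = X ↘ Spec (CommRingCat.of k) := hq
  obtain ⟨V, hV, hVU⟩ := Models.H74.CohSide.exists_affine (X' ↘ Spec (CommRingCat.of k)) hdim' h.off hd
  obtain ⟨F, π, w, hs⟩ := exists_seq ν h.off hd
  obtain ⟨hfin, heu⟩ := Models.H74.CohSide.euler_relation k ν hq' hs hdim' h.off hd
  obtain ⟨hf2, hrk⟩ := finrank_HH_zero k hs h.off V hV hVU
  let d : Spec (CommRingCat.of k) := IsLocalRing.closedPoint k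
  have hp : ν (σ d) ∈ V := by
    have h1 : ν (σ d) ∈ V ⊔ h.off := by rw [hVU]; trivial
    rcases h1 with h1 | h1
    · exact h1
    · exact absurd rfl ((h.mem_off.mp h1) d)
  have h1 := finrank_quot h (X' ↘ Spec (CommRingCat.of k)) (by rw [hq']; exact hσ) d V hV hp
  rw [h1] at hrk
  rw [hrk] at heu
  have e1 := CurvesC.EulerHV.euler_eq k X hdim (Coh.structureModule X)
  have e2 := CurvesC.EulerHV.euler_eq k X' hdim' (Coh.structureModule X')
  have e3 : (Module.finrank k (CurvesC.HV X (Coh.structureModule X) 1) : ℤ) = (Curv2.genus k X : ℤ) := rfl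
  have e4 : (Module.finrank k (CurvesC.HV X' (Coh.structureModule X') 1) : ℤ) = (Curv2.genus k X' : ℤ) := rfl
  have e5 : (Module.finrank k (CurvesC.HV X (Coh.structureModule X) 0) : ℤ) =
      (Module.finrank k (Coh.HH X (Coh.structureModule X) 0) : ℤ) := rfl
  have e6 : (Module.finrank k (CurvesC.HV X' (Coh.structureModule X') 0) : ℤ) =
      (Module.finrank k (Coh.HH X' (Coh.structureModule X') 0) : ℤ) := rfl
  change Curv2.euler k X' (Coh.structureModule X') = Curv2.euler k X (Coh.structureModule X) - 1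
  rw [e1, e2, e3, e4, e5, e6]
  omega

/-- `χ(X) = 1 - g` for a connected curve over an algebraically closed field. -/
theorem chi_conn [IsAlgClosed k] (q : X ⟶ Spec (CommRingCat.of k)) [IsProper q] [IsReduced X] [ConnectedSpace X]
    (hdim : topologicalKrullDim X ≤ 1) : chi k q = 1 - (@Curv2.genus k _ X ⟨q⟩ : ℤ) := by
  let _ : X.Over (Spec (CommRingCat.of k)) := ⟨q⟩
  have : IsProper (X ↘ (Spec (CommRingCat.of k))) := ‹IsProper q›
  have e1 := CurvesC.EulerHV.euler_eq k X hdim (Coh.structureModule X)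
  have e2 := Models.H74.CohSide.finrank_HH_zero_eq_one k (Z := X)
  have e3 : (Module.finrank k (CurvesC.HV X (Coh.structureModule X) 1) : ℤ) = (Curv2.genus k X : ℤ) := rfl
  have e5 : (Module.finrank k (CurvesC.HV X (Coh.structureModule X) 0) : ℤ) =
      (Module.finrank k (Coh.HH X (Coh.structureModule X) 0) : ℤ) := rfl
  change Curv2.euler k X (Coh.structureModule X) = 1 - (Curv2.genus k X : ℤ)
  rw [e1, e3, e5, e2]
  rfl

end Main

section Coprod

variable {k : Type u} [Field k]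

/-- Isomorphic schemes have the same Euler characteristic. -/
theorem chi_iso {X Y : Scheme.{u}} (e : X ≅ Y) (q : Y ⟶ Spec (CommRingCat.of k)) : chi k (e.hom ≫ q) = chi k q := by
  let _ : X.Over (Spec (CommRingCat.of k)) := ⟨e.hom ≫ q⟩
  let _ : Y.Over (Spec (CommRingCat.of k)) := ⟨q⟩
  have h1 := CurvesC.DegIso.euler_pullback_iso k e rfl (Coh.structureModule Y)
  have h2 := CurvesC.DegIso.euler_congr k (CurvesA.HHMap.pullbackUnit e.hom)
  exact h2.symm.trans h1

/-- The Euler characteristic of an open subscheme. -/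
theorem chi_open {Y : Scheme.{u}} (q : Y ⟶ Spec (CommRingCat.of k)) (U : Y.Opens) :
    chi k (U.ι ≫ q) = @Curv2.euler k _ U.toScheme ⟨U.ι ≫ q⟩ ((Coh.structureModule Y).restrict U.ι) := by
  let _ : U.toScheme.Over (Spec (CommRingCat.of k)) := ⟨U.ι ≫ q⟩
  have h1 := CurvesC.DegIso.euler_congr k (CurvesA.HHMap.pullbackUnit U.ι)
  have h2 := CurvesC.DegIso.euler_congr k ((Scheme.Modules.restrictFunctorIsoPullback U.ι).app (Coh.structureModule Y))
  exact h1.symm.trans h2.symm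

/-- The Euler characteristic is additive. -/
theorem chi_coprod {X Y : Scheme.{u}} (q : X ⟶ Spec (CommRingCat.of k)) (q' : Y ⟶ Spec (CommRingCat.of k))
    [IsProper q] [IsProper q'] : chi k (coprod.desc q q') = chi k q + chi k q' := by
  have hP : IsProper (coprod.desc q q') := Groth.Agent.Ega1.CDLift.isProper_coprodDesc q q'
  let U : (X ⨿ Y : Scheme.{u}).Opens := (coprod.inl : X ⟶ (X ⨿ Y : Scheme.{u})).opensRange
  let V : (X ⨿ Y : Scheme.{u}).Opens := (coprod.inr : Y ⟶ (X ⨿ Y : Scheme.{u})).opensRange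
  have hc := isCompl_range_inl_inr X Y
  have hUV : U ⊔ V = ⊤ := by
    ext1
    exact hc.sup_eq_top
  have hd : U ⊓ V = ⊥ := by
    ext1
    exact hc.inf_eq_bot
  let eU : X ≅ U.toScheme := (coprod.inl : X ⟶ (X ⨿ Y : Scheme.{u})).isoOpensRange
  let eV : Y ≅ V.toScheme := (coprod.inr : Y ⟶ (X ⨿ Y : Scheme.{u})).isoOpensRange
  have hU : eU.hom ≫ U.ι ≫ coprod.desc q q' = q := by
    rw [← Category.assoc]
    change ((coprod.inl : X ⟶ (X ⨿ Y : Scheme.{u})).isoOpensRange.hom ≫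
      (coprod.inl : X ⟶ (X ⨿ Y : Scheme.{u})).opensRange.ι) ≫ _ = _
    rw [Scheme.Hom.isoOpensRange_hom_ι, coprod.inl_desc]
  have hV : eV.hom ≫ V.ι ≫ coprod.desc q q' = q' := by
    rw [← Category.assoc]
    change ((coprod.inr : Y ⟶ (X ⨿ Y : Scheme.{u})).isoOpensRange.hom ≫
      (coprod.inr : Y ⟶ (X ⨿ Y : Scheme.{u})).opensRange.ι) ≫ _ = _
    rw [Scheme.Hom.isoOpensRange_hom_ι, coprod.inr_desc]
  have e1 : chi k q = chi k (U.ι ≫ coprod.desc q q') := by
    rw [← chi_iso eU, hU]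
  have e2 : chi k q' = chi k (V.ι ≫ coprod.desc q q') := by
    rw [← chi_iso eV, hV]
  rw [e1, e2, chi_open, chi_open]
  let _ : (X ⨿ Y : Scheme.{u}).Over (Spec (CommRingCat.of k)) := ⟨coprod.desc q q'⟩
  let _ : U.toScheme.Over (Spec (CommRingCat.of k)) := ⟨U.ι ≫ coprod.desc q q'⟩
  let _ : V.toScheme.Over (Spec (CommRingCat.of k)) := ⟨V.ι ≫ coprod.desc q q'⟩
  have hP' : IsProper ((X ⨿ Y : Scheme.{u}) ↘ Spec (CommRingCat.of k)) := hP
  exact Vancyc.H241.CohSplit.euler_add U V k rfl rfl hUV hd (Fdesc.StructMod.isCoh_structureModule _)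

end Coprod

end K312.Chi
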