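import Groth.Agent.CurvSt.K312.WS
import Groth.Agent.Ega1.CDLift

/-!
# Marked nodal curves and disjoint unions
-/

set_option autoImplicit false
universe u
open CategoryTheory CategoryTheory.Limits AlgebraicGeometry TopologicalSpace

namespace K312.Marks

open K312.Gl K312.GlNode K896.Trans

section Top

variable {W X : Scheme.{u}} (j : W ⟶ X) [IsOpenImmersion j] [IsClosedImmersion j]

omit [IsClosedImmersion j] in
theorem specializes_iff {w w' : W} : j w ⤳ j w' ↔ w ⤳ w' := j.isOpenEmbedding.isInducing.specializes_iff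

omit [IsClosedImmersion j] in
theorem mem_range_of_specializes {x : X} {w : W} (h : x ⤳ j w) : x ∈ Set.range j :=
  h.mem_open j.isOpenEmbedding.isOpen_range ⟨w, rfl⟩

omit [IsOpenImmersion j] in
theorem mem_range_of_specializes' {x : X} {w : W} (h : j w ⤳ x) : x ∈ Set.range j :=
  h.mem_closed j.isClosedEmbedding.isClosed_range ⟨w, rfl⟩

omit [IsClosedImmersion j] in
theorem gen_map_iff {w : W} : Gen (j w) ↔ Gen w := by
  constructor
  · intro h y hy
    exact j.isOpenEmbedding.injective (h _ (hy.map j.continuous))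
  · intro h y hy
    obtain ⟨w', rfl⟩ := mem_range_of_specializes j hy
    rw [h w' (j.isOpenEmbedding.isInducing.specializes_iff.mp hy)]

include j in
theorem pure_clopen (h : Pure X) : Pure W := by
  intro z hz
  obtain ⟨⟨x, hx, hne⟩, h1⟩ := h (j z) ((gen_map_iff j).mpr hz)
  obtain ⟨w, rfl⟩ := mem_range_of_specializes' j hx
  refine ⟨⟨w, (specializes_iff j).mp hx, fun h2 => hne (by rw [h2])⟩, ?_⟩
  intro x hx hne' y hy
  exact j.isOpenEmbedding.injective (h1 (j x) (hx.map j.continuous)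
    (fun h2 => hne' (j.isOpenEmbedding.injective h2)) (j y) (hy.map j.continuous))

omit [IsOpenImmersion j] in
theorem image_closure (w : W) : j '' closure {w} = closure {j w} := by
  rw [← j.isClosedEmbedding.isClosedMap.closure_image_eq_of_continuous j.continuous, Set.image_singleton]

theorem image_mem {E : Set W} (hE : E ∈ irreducibleComponents (W : Type u)) :
    j '' E ∈ irreducibleComponents (X : Type u) := by
  obtain ⟨z, hz, rfl⟩ := exists_gen hE
  rw [image_closure]
  exact gen_iff.mp ((gen_map_iff j).mpr hz)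

/-- A component meeting a clopen subset comes from it. -/
theorem exists_of_mem {E : Set X} (hE : E ∈ irreducibleComponents (X : Type u)) {w : W} (hw : j w ∈ E) :
    ∃ F ∈ irreducibleComponents (W : Type u), j '' F = E := by
  obtain ⟨z, hz, rfl⟩ := exists_gen hE
  obtain ⟨z, rfl⟩ := mem_range_of_specializes j (specializes_iff_mem_closure.mpr hw)
  exact ⟨closure {z}, gen_iff.mp ((gen_map_iff j).mp hz), image_closure j z⟩

theorem image_mem_iff {E : Set W} :
    j '' E ∈ irreducibleComponents (X : Type u) ↔ E ∈ irreducibleComponents (W : Type u) := by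
  refine ⟨fun h => ?_, image_mem j⟩
  obtain ⟨_, w, hw, rfl⟩ := h.1.nonempty
  obtain ⟨F, hF, hFE⟩ := exists_of_mem j h ⟨w, hw, rfl⟩
  rwa [← j.isOpenEmbedding.injective.image_injective hFE]

theorem meetPts_image (E : Set W) : CurvSt.meetPts X (j '' E) = j '' CurvSt.meetPts W E := by
  ext x
  constructor
  · rintro ⟨⟨w, hw, rfl⟩, F, hF, hne, hwF⟩
    obtain ⟨F', hF', rfl⟩ := exists_of_mem j hF hwF
    obtain ⟨w', hw', hww⟩ := hwF
    rw [j.isOpenEmbedding.injective hww] at hw'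
    exact ⟨w, ⟨hw, F', hF', fun h => hne (by rw [h]), hw'⟩, rfl⟩
  · rintro ⟨w, ⟨hw, F, hF, hne, hwF⟩, rfl⟩
    exact ⟨⟨w, hw, rfl⟩, j '' F, image_mem j hF,
      fun h => hne (j.isOpenEmbedding.injective.image_injective h), ⟨w, hwF, rfl⟩⟩

theorem image_Sp (M : Set X) (E : Set W) : Sp X M (j '' E) = j '' Sp W (j ⁻¹' M) E := by
  rw [Sp, Sp, Set.image_union, meetPts_image]
  congr 1
  ext x
  constructor
  · rintro ⟨hx, w, hw, rfl⟩
    exact ⟨w, ⟨hx, hw⟩, rfl⟩
  · rintro ⟨w, ⟨hx, hw⟩, rfl⟩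
    exact ⟨hx, w, hw, rfl⟩

variable {k : Type u} [Field k] (q : X ⟶ Spec (CommRingCat.of k))

theorem isSmRatComp_iff (E : Set W) :
    CurvSt.IsSmRatComp k W (j ≫ q) E ↔ CurvSt.IsSmRatComp k X q (j '' E) := by
  constructor
  · rintro ⟨hE, e, he, heq, hr⟩
    refine ⟨image_mem j hE, e ≫ j, inferInstance, by rw [Category.assoc, heq], ?_⟩
    rw [← hr, ← Set.range_comp]
    rfl
  · rintro ⟨hE, e, he, heq, hr⟩
    have hint := isIntegral_P1 (k := k)
    obtain ⟨e', he'⟩ : ∃ e' : CohB1.ProjSpace 1 k ⟶ W, e' ≫ j = e := by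
      have hsub : Set.range e ⊆ Set.range j := by
        rw [hr]
        exact Set.image_subset_range _ _
      exact ⟨IsOpenImmersion.lift j e hsub, IsOpenImmersion.lift_fac _ _ _⟩
    have hcl : IsClosedImmersion (e' ≫ j) := by rw [he']; exact he
    refine ⟨(image_mem_iff j).mp hE, e', IsClosedImmersion.of_comp e' j, by rw [← Category.assoc, he', heq], ?_⟩
    apply j.isOpenEmbedding.injective.image_injective
    rw [← hr, ← he', ← Set.range_comp]
    rfl

end Top

section WS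

variable {k : Type u} [Field k] {W X : Scheme.{u}} {q : X ⟶ Spec (CommRingCat.of k)}

theorem good_open (j : W ⟶ X) [IsOpenImmersion j] [LocallyOfFiniteType q] (w : W) :
    (SmAt (j ≫ q) w ↔ SmAt q (j w)) ∧
      (@Curv2.IsNode k _ W ⟨j ≫ q⟩ w ↔ @Curv2.IsNode k _ X ⟨q⟩ (j w)) := by
  let _ : X.Over (Spec (CommRingCat.of k)) := ⟨q⟩
  have : LocallyOfFiniteType (X ↘ (Spec (CommRingCat.of k))) := ‹LocallyOfFiniteType q›
  exact ⟨smAt_iff j q w, (K315.NodeEtale.isNode_iff_of_etale k X j w).symm⟩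

/-- A marked nodal curve restricts to clopen subschemes. -/
theorem WS.clopen {M : Set X} (hX : WS k q M) (j : W ⟶ X) [IsOpenImmersion j] [IsClosedImmersion j] :
    WS k (j ≫ q) (j ⁻¹' M) := by
  have hP := hX.proper
  refine ⟨inferInstance, pure_clopen j hX.pure, ?_, ?_, ?_, ?_⟩
  · intro w hw
    have h1 : IsClosed ({j w} : Set X) := by
      have := j.isClosedEmbedding.isClosedMap _ hw
      rwa [Set.image_singleton] at this
    obtain ⟨h2, h3⟩ := good_open (q := q) j w
    rcases hX.nodal _ h1 with h4 | h4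
    · exact Or.inl (h2.mpr h4)
    · exact Or.inr (h3.mpr h4)
  · intro m hm
    have h1 : ({m} : Set W) = j ⁻¹' {j m} := by
      ext w
      exact ⟨fun h => by rw [Set.mem_singleton_iff.mp h]; rfl, fun h => j.isOpenEmbedding.injective h⟩
    rw [h1]
    exact (hX.closed _ hm).preimage j.continuous
  · intro m hm
    exact (good_open (q := q) j m).1.mpr (hX.sm _ hm)
  · intro E hE
    refine (hX.comp _ ((isSmRatComp_iff j q E).mp hE)).trans ?_
    rw [image_Sp, j.isOpenEmbedding.injective.encard_image]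

/-- A scheme covered by two clopen marked nodal curves is a marked nodal curve. -/
theorem WS.of_clopen {W' : Scheme.{u}} {M : Set X} [IsProper q] (j : W ⟶ X) [IsOpenImmersion j] [IsClosedImmersion j]
    (j' : W' ⟶ X) [IsOpenImmersion j'] [IsClosedImmersion j'] (hc : ∀ x : X, x ∈ Set.range j ∨ x ∈ Set.range j')
    (h : WS k (j ≫ q) (j ⁻¹' M)) (h' : WS k (j' ≫ q) (j' ⁻¹' M)) : WS k q M := by
  -- treat one of the pieces
  have key1 : ∀ {V : Scheme.{u}} (i : V ⟶ X) [IsOpenImmersion i] [IsClosedImmersion i] (_ : WS k (i ≫ q) (i ⁻¹' M))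
      (v : V), (Gen (i v) → ((∃ x, i v ⤳ x ∧ x ≠ i v) ∧ ∀ x, i v ⤳ x → x ≠ i v → ∀ y, x ⤳ y → y = x)) ∧
      (IsClosed ({i v} : Set X) → SmAt q (i v) ∨ @Curv2.IsNode k _ X ⟨q⟩ (i v)) ∧
      (i v ∈ M → IsClosed ({i v} : Set X)) ∧ (i v ∈ M → SmAt q (i v)) ∧
      (∀ E : Set X, CurvSt.IsSmRatComp k X q E → i v ∈ E → (3 : ℕ∞) ≤ (Sp X M E).encard) := by
    intro V i _ _ hV v
    refine ⟨fun hg => ?_, fun hcl => ?_, fun hm => ?_, fun hm => ?_, fun E hE hv => ?_⟩
    · obtain ⟨⟨x, hx, hne⟩, h1⟩ := hV.pure v ((gen_map_iff i).mp hg)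
      refine ⟨⟨i x, hx.map i.continuous, fun h2 => hne (i.isOpenEmbedding.injective h2)⟩, ?_⟩
      intro x hx hne' y hy
      obtain ⟨x, rfl⟩ := mem_range_of_specializes' i hx
      obtain ⟨y, rfl⟩ := mem_range_of_specializes' i hy
      rw [h1 x ((specializes_iff i).mp hx) (fun h2 => hne' (by rw [h2])) y ((specializes_iff i).mp hy)]
    · have h1 : IsClosed ({v} : Set V) := by
        have h1 : ({v} : Set V) = i ⁻¹' {i v} := by
          ext w
          exact ⟨fun h => by rw [Set.mem_singleton_iff.mp h]; rfl, fun h => i.isOpenEmbedding.injective h⟩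
        rw [h1]
        exact hcl.preimage i.continuous
      obtain ⟨h2, h3⟩ := good_open (q := q) i v
      rcases hV.nodal _ h1 with h4 | h4
      · exact Or.inl (h2.mp h4)
      · exact Or.inr (h3.mp h4)
    · have := i.isClosedEmbedding.isClosedMap _ (hV.closed v hm)
      rwa [Set.image_singleton] at this
    · exact (good_open (q := q) i v).1.mp (hV.sm v hm)
    · obtain ⟨F, hF, rfl⟩ := exists_of_mem i hE.1 hv
      refine (hV.comp F ((isSmRatComp_iff i q F).mpr hE)).trans ?_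
      rw [image_Sp, i.isOpenEmbedding.injective.encard_image]
  have key : ∀ x : X, (Gen x → ((∃ y, x ⤳ y ∧ y ≠ x) ∧ ∀ z, x ⤳ z → z ≠ x → ∀ y, z ⤳ y → y = z)) ∧
      (IsClosed ({x} : Set X) → SmAt q x ∨ @Curv2.IsNode k _ X ⟨q⟩ x) ∧
      (x ∈ M → IsClosed ({x} : Set X)) ∧ (x ∈ M → SmAt q x) ∧
      (∀ E : Set X, CurvSt.IsSmRatComp k X q E → x ∈ E → (3 : ℕ∞) ≤ (Sp X M E).encard) := by
    intro x
    rcases hc x with ⟨v, rfl⟩ | ⟨v, rfl⟩
    · exact key1 j h v
    · exact key1 j' h' v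
  refine ⟨inferInstance, fun z hz => (key z).1 hz, fun x hx => (key x).2.1 hx, fun m hm => (key m).2.2.1 hm,
    fun m hm => (key m).2.2.2.1 hm, fun E hE => ?_⟩
  obtain ⟨x, hx⟩ := hE.1.1.nonempty
  exact (key x).2.2.2.2 E hE hx

/-- Disjoint unions of marked nodal curves. -/
theorem WS.coprod {W' : Scheme.{u}} {q : W ⟶ Spec (CommRingCat.of k)} {q' : W' ⟶ Spec (CommRingCat.of k)}
    {M : Set W} {M' : Set W'} (h : WS k q M) (h' : WS k q' M') :
    WS k (coprod.desc q q') ((coprod.inl : W ⟶ (W ⨿ W' : Scheme.{u})) '' M ∪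
      (coprod.inr : W' ⟶ (W ⨿ W' : Scheme.{u})) '' M') := by
  have h1 := h.proper
  have h2 := h'.proper
  have hP : IsProper (coprod.desc q q') := Groth.Agent.Ega1.CDLift.isProper_coprodDesc q q'
  have hdis : ∀ (w : W) (w' : W'), (coprod.inl : W ⟶ (W ⨿ W' : Scheme.{u})) w ≠
      (coprod.inr : W' ⟶ (W ⨿ W' : Scheme.{u})) w' := by
    intro w w' e
    rw [← coprodMk_inl, ← coprodMk_inr] at e
    cases (coprodMk W W').injective e
  refine WS.of_clopen (coprod.inl : W ⟶ (W ⨿ W' : Scheme.{u})) (coprod.inr : W' ⟶ (W ⨿ W' : Scheme.{u})) ?_ ?_ ?_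
  · intro z
    obtain ⟨(p | p), rfl⟩ := (coprodMk W W').surjective z
    · exact Or.inl ⟨p, (coprodMk_inl _ _ _).symm⟩
    · exact Or.inr ⟨p, (coprodMk_inr _ _ _).symm⟩
  · rw [coprod.inl_desc]
    convert h using 1
    ext w
    constructor
    · rintro (⟨m, hm, e⟩ | ⟨m, hm, e⟩)
      · rwa [(coprod.inl : W ⟶ (W ⨿ W' : Scheme.{u})).isOpenEmbedding.injective e] at hm
      · exact absurd e.symm (hdis _ _)
    · intro hw
      exact Or.inl ⟨w, hw, rfl⟩
  · rw [coprod.inr_desc]
    convert h' using 1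
    ext w
    constructor
    · rintro (⟨m, hm, e⟩ | ⟨m, hm, e⟩)
      · exact absurd e (hdis _ _)
      · rwa [(coprod.inr : W' ⟶ (W ⨿ W' : Scheme.{u})).isOpenEmbedding.injective e] at hm
    · intro hw
      exact Or.inr ⟨w, hw, rfl⟩

end WS

end K312.Marks
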