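import Groth.Agent.CurvSt.K312.Stab
import Groth.Agent.CurvSt.K312.Chi
import Groth.Agent.CurvesC.GenusOne512

/-!
# Glueing two sections of a family of marked nodal curves
-/

set_option autoImplicit false
universe u
open CategoryTheory CategoryTheory.Limits AlgebraicGeometry TopologicalSpace

namespace K312.Fam

open K312.Gl K312.Marks K312.Chi K896.Trans CurvSt

section Sec

variable {T C : Scheme.{u}} {f : C ⟶ T}

/-- The section induced on a fibre. -/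
noncomputable def secF {s : T ⟶ C} (hs : s ≫ f = 𝟙 T) {Ω : Type u} [Field Ω] {t : Spec (CommRingCat.of Ω) ⟶ T}
    {Y : Scheme.{u}} {i : Y ⟶ C} {q : Y ⟶ Spec (CommRingCat.of Ω)} (hP : IsPullback i q f t) :
    Spec (CommRingCat.of Ω) ⟶ Y :=
  hP.lift (t ≫ s) (𝟙 _) (by rw [Category.assoc, hs, Category.comp_id, Category.id_comp])

variable {Ω : Type u} [Field Ω] {t : Spec (CommRingCat.of Ω) ⟶ T} {Y : Scheme.{u}} {i : Y ⟶ C}
  {q : Y ⟶ Spec (CommRingCat.of Ω)} (hP : IsPullback i q f t)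

@[reassoc]
theorem secF_fst {s : T ⟶ C} (hs : s ≫ f = 𝟙 T) : secF hs hP ≫ i = t ≫ s := hP.lift_fst _ _ _

@[reassoc]
theorem secF_snd {s : T ⟶ C} (hs : s ≫ f = 𝟙 T) : secF hs hP ≫ q = 𝟙 _ := hP.lift_snd _ _ _

/-- The closed point. -/
noncomputable def pt (Ω : Type u) [Field Ω] : Spec (CommRingCat.of Ω) := IsLocalRing.closedPoint Ω

theorem markedPt_eq {n : ℕ} {σ : Fin n → (T ⟶ C)} (hσ : ∀ i, σ i ≫ f = 𝟙 T) (j : Fin n) :
    markedPt σ hσ hP j = (secF (hσ j) hP) (pt Ω) := rfl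

end Sec

/-- The data needed on a geometric fibre. -/
structure FibData {T C : Scheme.{u}} {f : C ⟶ T} {sa sb : T ⟶ C} (ha : sa ≫ f = 𝟙 T) (hb : sb ≫ f = 𝟙 T)
    {n : ℕ} {σ : Fin n → (T ⟶ C)} (hσ : ∀ i, σ i ≫ f = 𝟙 T) (G : ℕ) {Ω : Type u} [Field Ω] [IsAlgClosed Ω]
    {t : Spec (CommRingCat.of Ω) ⟶ T} {Y : Scheme.{u}} {i : Y ⟶ C} {q : Y ⟶ Spec (CommRingCat.of Ω)}
    (hP : IsPullback i q f t) : Prop where
  ws : WS Ω q (Set.range (markedPt σ hσ hP) ∪ {(secF ha hP) (pt Ω), (secF hb hP) (pt Ω)})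
  inj : Function.Injective (markedPt σ hσ hP)
  ne_a : ∀ j, markedPt σ hσ hP j ≠ (secF ha hP) (pt Ω)
  ne_b : ∀ j, markedPt σ hσ hP j ≠ (secF hb hP) (pt Ω)
  chi : chi Ω q = 2 - G
  conn : ∀ (Y' : Scheme.{u}) (ν' : Y ⟶ Y'), IsGl (secF ha hP) (secF hb hP) ν' → ConnectedSpace Y'
  hn : 3 ≤ 2 * G + n

/-- **Glueing two sections of a family.** -/
theorem isStableFam_of_gl {T C X : Scheme.{u}} [IsLocallyNoetherian T] {f : C ⟶ T} [Flat f] [IsProper f]
    {sa sb : T ⟶ C} (ha : sa ≫ f = 𝟙 T) (hb : sb ≫ f = 𝟙 T) {n G : ℕ} {σ : Fin n → (T ⟶ C)}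
    (hσ : ∀ i, σ i ≫ f = 𝟙 T) {ν : C ⟶ X} (hν : IsGl sa sb ν) {f₁ : X ⟶ T} (hf : ν ≫ f₁ = f)
    (H : ∀ (Ω : Type u) [Field Ω] [IsAlgClosed Ω] (t : Spec (CommRingCat.of Ω) ⟶ T), ∃ (Y : Scheme.{u}) (i : Y ⟶ C)
      (q : Y ⟶ Spec (CommRingCat.of Ω)) (hP : IsPullback i q f t), FibData ha hb hσ G hP) :
    IsStableFam f₁ (fun i => σ i ≫ ν) (fun i => by rw [Category.assoc, hf, hσ]) G := by
  have e1 : Flat (ν ≫ f₁) := by rw [hf]; infer_instance
  have e2 : IsProper (ν ≫ f₁) := by rw [hf]; infer_instance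
  have e3 : sa ≫ ν ≫ f₁ = 𝟙 T := by rw [hf, ha]
  have e4 : Flat (sa ≫ ν ≫ f₁) := by rw [e3]; infer_instance
  have e5 : IsProper (sa ≫ ν ≫ f₁) := by rw [e3]; infer_instance
  have hflat : Flat f₁ := hν.flat f₁
  have hprop : IsProper f₁ := hν.isProper f₁
  refine ⟨hflat, hprop, LocallyOfFinitePresentation.iff_locallyOfFiniteType.2 inferInstance, ?_⟩
  intro Ω _ _ t Z j q₁ hQ
  obtain ⟨Y, i, q, hP, hY⟩ := H Ω t
  have hPν : IsPullback i q (ν ≫ f₁) t := by rw [hf]; exact hP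
  -- the glued fibre
  let ν' : Y ⟶ Z := hQ.lift (i ≫ ν) q (by rw [Category.assoc, hf, hP.w])
  have hν1 : ν' ≫ j = i ≫ ν := hQ.lift_fst _ _ _
  have hν2 : ν' ≫ q₁ = q := hQ.lift_snd _ _ _
  have hgl : IsGl (secF ha hP) (secF hb hP) ν' := by
    refine hν.baseChange (f' := f₁) (g := t) hPν (gD := t) (d₁ := 𝟙 _) ?_ hQ (secF_fst hP ha) (secF_snd hP ha)
      (secF_fst hP hb) (secF_snd hP hb) hν1 hν2
    rw [e3]
    exact IsPullback.of_vert_isIso ⟨by simp⟩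
  have hq1 : IsProper q := hY.ws.proper
  have hq2 : IsProper q₁ := MorphismProperty.of_isPullback hQ inferInstance
  have hws := hY.ws.glue hgl hν2 (secF_snd hP ha) (secF_snd hP hb) (pt Ω) (Or.inr (Or.inl rfl)) (Or.inr (Or.inr rfl))
  have hmark : ∀ l, markedPt (fun i => σ i ≫ ν) (fun i => by rw [Category.assoc, hf, hσ]) hQ l =
      ν' (markedPt σ hσ hP l) := by
    intro l
    have h1 : secF (f := f₁) (s := σ l ≫ ν) (by rw [Category.assoc, hf, hσ]) hQ = secF (hσ l) hP ≫ ν' := by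
      apply hQ.hom_ext
      · rw [secF_fst, Category.assoc, hν1, secF_fst_assoc]
      · rw [secF_snd, Category.assoc, hν2, secF_snd]
    rw [markedPt_eq, h1, markedPt_eq, Scheme.Hom.comp_apply]
  have hset : ν' '' ((Set.range (markedPt σ hσ hP) ∪ {(secF ha hP) (pt Ω), (secF hb hP) (pt Ω)}) \
      {(secF ha hP) (pt Ω), (secF hb hP) (pt Ω)}) =
      Set.range (markedPt (fun i => σ i ≫ ν) (fun i => by rw [Category.assoc, hf, hσ]) hQ) := by
    ext z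
    constructor
    · rintro ⟨y, ⟨⟨l, rfl⟩ | h1, h2⟩, rfl⟩
      · exact ⟨l, hmark l⟩
      · exact absurd h1 h2
    · rintro ⟨l, rfl⟩
      rw [hmark]
      refine ⟨_, ⟨Or.inl ⟨l, rfl⟩, ?_⟩, rfl⟩
      simp only [Set.mem_insert_iff, Set.mem_singleton_iff, not_or]
      exact ⟨hY.ne_a l, hY.ne_b l⟩
  rw [hset] at hws
  have hconn := hY.conn Z ν' hgl
  rw [isStablePtd_iff]
  have hsub : Subsingleton (Spec (CommRingCat.of Ω)) := inferInstanceAs (Subsingleton (PrimeSpectrum Ω))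
  refine ⟨hws, ?_, hconn, ?_, hY.hn⟩
  · intro l l' hll
    rw [hmark, hmark] at hll
    apply hY.inj
    rcases hgl.apply_eq_iff.mp hll with h1 | ⟨d, h1, -⟩ | ⟨d, h1, -⟩
    · exact h1
    · rw [Subsingleton.elim d (pt Ω)] at h1
      exact absurd h1 (hY.ne_a l')
    · rw [Subsingleton.elim d (pt Ω)] at h1
      exact absurd h1 (hY.ne_b l')
  · let _ : Z.Over (Spec (CommRingCat.of Ω)) := ⟨q₁⟩
    have hq3 : IsProper (Z ↘ (Spec (CommRingCat.of Ω))) := hq2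
    have hnod : Curv2.AtWorstNodal Ω Z := hws.nodal
    have hred : IsReduced Z := Groth.Agent.CurvesC.GenusOne512.isReduced_of_atWorstNodal Ω Z hnod
    have hd1 := topologicalKrullDim_le_of_pure hY.ws.pure
    have hd2 := topologicalKrullDim_le_of_pure hws.pure
    have h1 := chi_gl hgl q q₁ hd1 hd2 (hgl.off_of_pure hY.ws.pure) hν2 (secF_snd hP ha)
    have h2 := chi_conn q₁ hd2
    rw [hY.chi, h2] at h1
    omega

end K312.Fam
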