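import Groth.Prelude.Def_StCurv
import Mathlib.AlgebraicGeometry.ResidueField

/-!
# Distinct sections of a stable family are disjoint
-/

set_option autoImplicit false
universe u
open CategoryTheory CategoryTheory.Limits AlgebraicGeometry TopologicalSpace

namespace K312.SecNe

theorem eq_of_apply_eq {K : Type u} [Field K] {S C : Scheme.{u}} (f : C ⟶ S) (u v : Spec (CommRingCat.of K) ⟶ C)
    (huv : u ≫ f = v ≫ f) (d : Spec (CommRingCat.of K)) (h : u d = v d)
    (hs : Function.Surjective (f.residueFieldMap (u d))) : u = v := by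
  obtain ⟨⟨c, α⟩, rfl⟩ := (Scheme.SpecToEquivOfField K C).symm.surjective u
  obtain ⟨⟨c', β⟩, rfl⟩ := (Scheme.SpecToEquivOfField K C).symm.surjective v
  have hc : ∀ (c : C) (α : C.residueField c ⟶ CommRingCat.of K), ((Scheme.SpecToEquivOfField K C).symm ⟨c, α⟩) d = c := by
    intro c α
    change (Spec.map α ≫ C.fromSpecResidueField c) d = c
    rw [Scheme.Hom.comp_apply, Scheme.fromSpecResidueField_apply]
  rw [hc, hc] at h
  subst h
  rw [hc] at hs
  change (Spec.map α ≫ C.fromSpecResidueField c) ≫ f = (Spec.map β ≫ C.fromSpecResidueField c) ≫ f at huv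
  rw [Category.assoc, Category.assoc, ← Scheme.Hom.SpecMap_residueFieldMap_fromSpecResidueField, ← Category.assoc,
    ← Category.assoc, cancel_mono, ← Spec.map_comp, ← Spec.map_comp] at huv
  have h1 := Spec.map_injective huv
  have h2 : α = β := by
    ext x
    obtain ⟨y, rfl⟩ := hs x
    exact congr($h1 y)
  rw [h2]

/-- Residue fields along a section. -/
theorem surjective_of_section {T C : Scheme.{u}} (f : C ⟶ T) (σ : T ⟶ C) (hσ : σ ≫ f = 𝟙 T) (s : T) :
    Function.Surjective (f.residueFieldMap (σ s)) := by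
  have h2 : Function.Bijective ((σ ≫ f).residueFieldMap s) := by
    have : IsIso (σ ≫ f) := by rw [hσ]; infer_instance
    exact (ConcreteCategory.isIso_iff_bijective _).mp inferInstance
  intro x
  obtain ⟨y, hy⟩ := h2.2 (σ.residueFieldMap s x)
  refine ⟨y, (σ.residueFieldMap s).hom.injective ?_⟩
  rw [Scheme.residueFieldMap_comp] at hy
  exact hy

open CurvSt in
/-- Distinct sections of a stable family are disjoint. -/
theorem section_ne {T C : Scheme.{u}} {f : C ⟶ T} {n g : ℕ} {σ : Fin n → (T ⟶ C)} {hσ : ∀ i, σ i ≫ f = 𝟙 T}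
    (h : IsStableFam f σ hσ g) {a b : Fin n} (hab : a ≠ b) (s t : T) : σ a s ≠ σ b t := by
  intro e
  have hst : s = t := by
    have h1 := congrArg f e
    rw [← Scheme.Hom.comp_apply, ← Scheme.Hom.comp_apply, hσ, hσ] at h1
    exact h1
  subst hst
  obtain ⟨K, hK, hK', t₀, d, ht₀⟩ : ∃ (K : Type u) (_ : Field K) (_ : IsAlgClosed K)
      (t₀ : Spec (CommRingCat.of K) ⟶ T) (d : Spec (CommRingCat.of K)), t₀ d = s := by
    refine ⟨AlgebraicClosure (T.residueField s), inferInstance, inferInstance,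
      Spec.map (CommRingCat.ofHom (algebraMap (T.residueField s) (AlgebraicClosure (T.residueField s)))) ≫
        T.fromSpecResidueField s, IsLocalRing.closedPoint (AlgebraicClosure (T.residueField s)), ?_⟩
    exact T.fromSpecResidueField_apply s _
  have hP : IsPullback (pullback.fst f t₀) (pullback.snd f t₀) f t₀ := IsPullback.of_hasPullback _ _
  have h1 := (h.2.2.2 K t₀ _ _ _ hP).2.2.2.2.1
  apply hab
  apply h1
  have h2 : t₀ ≫ σ a = t₀ ≫ σ b := by
    refine eq_of_apply_eq f _ _ (by rw [Category.assoc, Category.assoc, hσ, hσ]) d ?_ ?_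
    · rw [Scheme.Hom.comp_apply, Scheme.Hom.comp_apply, ht₀, e]
    · have h3 : (t₀ ≫ σ a) d = σ a s := by
        rw [Scheme.Hom.comp_apply, ht₀]
      rw [h3]
      exact surjective_of_section f (σ a) (hσ a) s
  have h3 : ∀ (u v : Spec (CommRingCat.of K) ⟶ C) (huv : u = v) (hu : u ≫ f = 𝟙 _ ≫ t₀) (hv : v ≫ f = 𝟙 _ ≫ t₀),
      hP.lift u (𝟙 _) hu = hP.lift v (𝟙 _) hv := by
    rintro u _ rfl _ _; rfl
  exact congrArg (fun z => z.base (IsLocalRing.closedPoint K)) (h3 _ _ h2 _ _)

end K312.SecNe
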