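import Groth.Agent.CurvSt.K312.GlBC
import Groth.Agent.CurvSt.K312.Aff
import Groth.Agent.CurvSt.K896.GlueDef

/-!
# Universal glueings: `UnivGlue` and `UnivPush` from `IsGl`
-/

set_option autoImplicit false
universe u
open CategoryTheory CategoryTheory.Limits AlgebraicGeometry TopologicalSpace

namespace K312.Gl

open K896.Glue

theorem IsGl.isGlue {C X T : Scheme.{u}} {f : C ⟶ T} {f₁ : X ⟶ T} {a b : T ⟶ C} {ν : C ⟶ X} (h : IsGl a b ν)
    (hf : ν ≫ f₁ = f) : IsGlue f f₁ a b ν := ⟨hf, h.w, fun _ w hw => h.existsUnique w hw⟩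

/-- A glueing of two sections is universal. -/
theorem IsGl.univGlue {C X T : Scheme.{u}} {f : C ⟶ T} {f₁ : X ⟶ T} {a b : T ⟶ C} {ν : C ⟶ X} (h : IsGl a b ν)
    (ha : a ≫ f = 𝟙 T) (hf : ν ≫ f₁ = f) : UnivGlue f f₁ a b ν := by
  intro T' C' X' t c x f' f₁' a' b' ν' hC hX ha' hb' hac hbc hν hν'
  have e : a ≫ ν ≫ f₁ = 𝟙 T := by rw [hf, ha]
  have hflat : Flat (a ≫ ν ≫ f₁) := by rw [e]; infer_instance
  have hgl : IsGl a' b' ν' := h.baseChange (f' := f₁) (g := t) (gC := c) (f₁ := f') (gD := t) (d₁ := 𝟙 _)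
    (gC' := x) (f₁' := f₁') (by rw [hf]; exact hC) (by rw [e]; exact IsPullback.of_vert_isIso ⟨by simp⟩) hX hac ha'
    hbc hb' hν hν'
  exact hgl.isGlue hν'

/-- Glueing two schemes along a common closed subscheme. -/
theorem IsGl.isPushout_coprod {T C₁ C₂ X : Scheme.{u}} {a : T ⟶ C₁} {b : T ⟶ C₂} {ν₁ : C₁ ⟶ X} {ν₂ : C₂ ⟶ X}
    (h : IsGl (a ≫ coprod.inl) (b ≫ coprod.inr) (coprod.desc ν₁ ν₂)) : IsPushout a b ν₁ ν₂ := by
  have hw : a ≫ ν₁ = b ≫ ν₂ := by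
    have := h.w
    rwa [Category.assoc, Category.assoc, coprod.inl_desc, coprod.inr_desc] at this
  have key : ∀ s : PushoutCocone a b, ∃ v : X ⟶ s.pt, ν₁ ≫ v = s.inl ∧ ν₂ ≫ v = s.inr ∧
      ∀ m : X ⟶ s.pt, ν₁ ≫ m = s.inl → ν₂ ≫ m = s.inr → m = v := by
    intro s
    obtain ⟨v, hv, huniq⟩ := h.existsUnique (coprod.desc s.inl s.inr) (by
      rw [Category.assoc, Category.assoc, coprod.inl_desc, coprod.inr_desc, s.condition])
    refine ⟨v, ?_, ?_, fun m hm1 hm2 => huniq m ?_⟩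
    · have h2 := congrArg (fun g => coprod.inl ≫ g) hv
      simpa only [coprod.inl_desc, coprod.inl_desc_assoc] using h2
    · have h2 := congrArg (fun g => coprod.inr ≫ g) hv
      simpa only [coprod.inr_desc, coprod.inr_desc_assoc] using h2
    · apply coprod.hom_ext
      · rw [coprod.inl_desc_assoc, coprod.inl_desc, hm1]
      · rw [coprod.inr_desc_assoc, coprod.inr_desc, hm2]
  choose v h1 h2 h3 using key
  exact ⟨⟨hw⟩, ⟨PushoutCocone.IsColimit.mk _ v h1 h2 h3⟩⟩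

/-- Glueing two families along a section is universal. -/
theorem IsGl.univPush {C₁ C₂ X T : Scheme.{u}} {f₁ : C₁ ⟶ T} {f₂ : C₂ ⟶ T} {f : X ⟶ T} {a : T ⟶ C₁} {b : T ⟶ C₂}
    {ν₁ : C₁ ⟶ X} {ν₂ : C₂ ⟶ X} (h : IsGl (a ≫ coprod.inl) (b ≫ coprod.inr) (coprod.desc ν₁ ν₂))
    (ha : a ≫ f₁ = 𝟙 T) (h1 : ν₁ ≫ f = f₁) (h2 : ν₂ ≫ f = f₂) : UnivPush f₁ f₂ f a b ν₁ ν₂ := by
  intro T' C₁' C₂' X' t c₁ c₂ x f₁' f₂' f' a' b' ν₁' ν₂' hC₁ hC₂ hX ha' hb' hac hbc hn₁ hn₂ hn₁' hn₂'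
  have e0 : coprod.desc ν₁ ν₂ ≫ f = coprod.desc f₁ f₂ := by
    apply coprod.hom_ext
    · rw [coprod.inl_desc_assoc, coprod.inl_desc, h1]
    · rw [coprod.inr_desc_assoc, coprod.inr_desc, h2]
  have e : (a ≫ coprod.inl) ≫ coprod.desc ν₁ ν₂ ≫ f = 𝟙 T := by rw [e0, Category.assoc, coprod.inl_desc, ha]
  have hflat : Flat ((a ≫ coprod.inl) ≫ coprod.desc ν₁ ν₂ ≫ f) := by rw [e]; infer_instance
  have hP := isPullback_coprod hC₁ hC₂
  refine IsGl.isPushout_coprod (h.baseChange (f' := f) (g := t) (gC := coprod.map c₁ c₂)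
    (f₁ := coprod.desc f₁' f₂') (gD := t) (d₁ := 𝟙 _) (gC' := x) (f₁' := f') (by rw [e0]; exact hP)
    (by rw [e]; exact IsPullback.of_vert_isIso ⟨by simp⟩) hX ?_ ?_ ?_ ?_ ?_ ?_)
  · rw [Category.assoc, coprod.inl_map, ← Category.assoc, hac, Category.assoc]
  · rw [Category.assoc, coprod.inl_desc, ha']
  · rw [Category.assoc, coprod.inr_map, ← Category.assoc, hbc, Category.assoc]
  · rw [Category.assoc, coprod.inr_desc, hb']
  · apply coprod.hom_ext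
    · rw [coprod.inl_desc_assoc, coprod.inl_map_assoc, coprod.inl_desc, hn₁]
    · rw [coprod.inr_desc_assoc, coprod.inr_map_assoc, coprod.inr_desc, hn₂]
  · apply coprod.hom_ext
    · rw [coprod.inl_desc_assoc, coprod.inl_desc, hn₁']
    · rw [coprod.inr_desc_assoc, coprod.inr_desc, hn₂']

theorem isClosedImmersion_sec {T C : Scheme.{u}} {f : C ⟶ T} [IsSeparated f] {s : T ⟶ C} (hs : s ≫ f = 𝟙 T) :
    IsClosedImmersion s := by
  have : IsClosedImmersion (s ≫ f) := by rw [hs]; infer_instance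
  exact IsClosedImmersion.of_comp s f

/-- Existence of the glueing of two disjoint sections. -/
theorem exists_gl {T C : Scheme.{u}} {f : C ⟶ T} [IsSeparated f] {a b : T ⟶ C} (ha : a ≫ f = 𝟙 T) (hb : b ≫ f = 𝟙 T)
    (hab : ∀ s t, a s ≠ b t) (haff : ∀ d : T, ∃ U : C.Opens, IsAffineOpen U ∧ a d ∈ U ∧ b d ∈ U) :
    ∃ (X : Scheme.{u}) (f₁ : X ⟶ T) (ν : C ⟶ X), IsGl a b ν ∧ ν ≫ f₁ = f := by
  obtain ⟨X, ν, h⟩ := exists_isGl (isClosedImmersion_sec ha) (isClosedImmersion_sec hb) hab haff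
  obtain ⟨f₁, hf₁, -⟩ := h.existsUnique f (by rw [ha, hb])
  exact ⟨X, f₁, ν, h, hf₁⟩

/-- Existence of the glueing of two families along a section. -/
theorem exists_gl_coprod {T C₁ C₂ : Scheme.{u}} {f₁ : C₁ ⟶ T} {f₂ : C₂ ⟶ T} [IsSeparated f₁] [IsSeparated f₂]
    {a : T ⟶ C₁} {b : T ⟶ C₂} (ha : a ≫ f₁ = 𝟙 T) (hb : b ≫ f₂ = 𝟙 T) :
    ∃ (X : Scheme.{u}) (f : X ⟶ T) (ν₁ : C₁ ⟶ X) (ν₂ : C₂ ⟶ X),
      IsGl (a ≫ coprod.inl) (b ≫ coprod.inr) (coprod.desc ν₁ ν₂) ∧ ν₁ ≫ f = f₁ ∧ ν₂ ≫ f = f₂ := by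
  have i1 := isClosedImmersion_sec ha
  have i2 := isClosedImmersion_sec hb
  obtain ⟨X, ν, h⟩ := exists_isGl (σ := a ≫ (coprod.inl : C₁ ⟶ (C₁ ⨿ C₂ : Scheme.{u})))
    (τ := b ≫ (coprod.inr : C₂ ⟶ (C₁ ⨿ C₂ : Scheme.{u}))) inferInstance inferInstance (by
      intro s t e
      rw [Scheme.Hom.comp_apply, Scheme.Hom.comp_apply, ← coprodMk_inl, ← coprodMk_inr] at e
      cases (coprodMk C₁ C₂).injective e) (fun d => by
      obtain ⟨U, hU, h1, h2⟩ := Aff.exists_affine_coprod (a d) (b d)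
      refine ⟨U, hU, ?_, ?_⟩
      · rwa [Scheme.Hom.comp_apply]
      · rwa [Scheme.Hom.comp_apply])
  obtain ⟨f, hf, -⟩ := h.existsUnique (coprod.desc f₁ f₂) (by
    rw [Category.assoc, Category.assoc, coprod.inl_desc, coprod.inr_desc, ha, hb])
  refine ⟨X, f, coprod.inl ≫ ν, coprod.inr ≫ ν, ?_, ?_, ?_⟩
  · have e : coprod.desc (coprod.inl ≫ ν) (coprod.inr ≫ ν) = ν := by
      apply coprod.hom_ext
      · rw [coprod.inl_desc]
      · rw [coprod.inr_desc]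
    rwa [e]
  · rw [Category.assoc, hf, coprod.inl_desc]
  · rw [Category.assoc, hf, coprod.inr_desc]

end K312.Gl
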