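import Groth.Agent.CurvSt.K312.Fam
import Groth.Agent.CurvSt.K312.SecNe
import Groth.Agent.CurvSt.K312.Univ

/-!
# Glueing two sections of a stable pointed family
-/

set_option autoImplicit false
universe u
open CategoryTheory CategoryTheory.Limits AlgebraicGeometry TopologicalSpace

namespace K312.Fam

open K312.Gl K312.Marks K312.Chi K896.Trans CurvSt K896.Glue

theorem range_eq {ι Y : Type*} [Fintype ι] {n : ℕ} {ρ : Fin n → ι} (hρ : Function.Injective ρ) {a b : ι}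
    (hab : a ≠ b) (ha : ∀ i, ρ i ≠ a) (hb : ∀ i, ρ i ≠ b) (hcard : Fintype.card ι = n + 2) (M : ι → Y) :
    Set.range M = Set.range (fun i => M (ρ i)) ∪ {M a, M b} := by
  classical
  let w : Fin n ⊕ Fin 2 → ι := Sum.elim ρ ![a, b]
  have hw : Function.Injective w := by
    rintro (i | i) (j | j) h
    · exact congrArg _ (hρ h)
    · exfalso
      fin_cases j
      · exact ha i h
      · exact hb i h
    · exfalso
      fin_cases i
      · exact ha j h.symm
      · exact hb j h.symm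
    · fin_cases i <;> fin_cases j
      · rfl
      · exact absurd h hab
      · exact absurd h.symm hab
      · rfl
  have hs : Function.Surjective w :=
    ((Fintype.bijective_iff_injective_and_card w).mpr ⟨hw, by simp [hcard]⟩).2
  ext y
  constructor
  · rintro ⟨i, rfl⟩
    obtain ⟨(j | j), rfl⟩ := hs i
    · exact Or.inl ⟨j, rfl⟩
    · right
      fin_cases j
      · exact Or.inl rfl
      · exact Or.inr rfl
  · rintro (⟨i, rfl⟩ | rfl | h)
    · exact ⟨_, rfl⟩
    · exact ⟨_, rfl⟩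
    · exact ⟨b, h.symm⟩

/-- The data on the fibres of a stable family. -/
theorem fibData_one {C T : Scheme.{u}} {f : C ⟶ T} {m n h : ℕ} {x : Fin m → (T ⟶ C)} (hx : ∀ i, x i ≫ f = 𝟙 T)
    (hst : IsStableFam f x hx h) {a b : Fin m} (hab : a ≠ b) {ρ : Fin n → Fin m} (hρ : Function.Injective ρ)
    (hρa : ∀ i, ρ i ≠ a) (hρb : ∀ i, ρ i ≠ b) (hm : m = n + 2) (Ω : Type u) [Field Ω] [IsAlgClosed Ω]
    {t : Spec (CommRingCat.of Ω) ⟶ T} {Y : Scheme.{u}} {i : Y ⟶ C} {q : Y ⟶ Spec (CommRingCat.of Ω)}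
    (hP : IsPullback i q f t) :
    FibData (hx a) (hx b) (σ := fun i => x (ρ i)) (fun i => hx (ρ i)) (h + 1) hP := by
  obtain ⟨hws, hinj, hconn, hgen, hn⟩ := isStablePtd_iff.mp (hst.2.2.2 Ω t Y i q hP)
  have hr := range_eq hρ hab hρa hρb (by rw [Fintype.card_fin, hm]) (markedPt x hx hP)
  rw [hr] at hws
  have hprop : IsProper q := hws.proper
  let _ : Y.Over (Spec (CommRingCat.of Ω)) := ⟨q⟩
  have hq3 : IsProper (Y ↘ (Spec (CommRingCat.of Ω))) := hprop
  have hnod : Curv2.AtWorstNodal Ω Y := hws.nodal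
  have hred : IsReduced Y := Groth.Agent.CurvesC.GenusOne512.isReduced_of_atWorstNodal Ω Y hnod
  have hd1 := topologicalKrullDim_le_of_pure hws.pure
  refine ⟨hws, fun i j hij => hρ (hinj hij), fun j hj => hρa j (hinj hj), fun j hj => hρb j (hinj hj), ?_, ?_, ?_⟩
  · rw [chi_conn q hd1, hgen]
    push_cast
    ring
  · intro Y' ν' hν'
    exact hν'.connectedSpace
  · omega

/-- **Glueing two sections of a stable pointed family.** -/
theorem exists_glue {C T : Scheme.{u}} [IsLocallyNoetherian T] {f : C ⟶ T} {m n h : ℕ} {x : Fin m → (T ⟶ C)}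
    (hx : ∀ i, x i ≫ f = 𝟙 T) (hst : IsStableFam f x hx h) {a b : Fin m} (hab : a ≠ b) {ρ : Fin n → Fin m}
    (hρ : Function.Injective ρ) (hρa : ∀ i, ρ i ≠ a) (hρb : ∀ i, ρ i ≠ b) (hm : m = n + 2)
    (haff : ∀ d : T, ∃ U : C.Opens, IsAffineOpen U ∧ x a d ∈ U ∧ x b d ∈ U) :
    ∃ (X : Scheme.{u}) (f₁ : X ⟶ T) (ν : C ⟶ X) (hf : ν ≫ f₁ = f), IsGl (x a) (x b) ν ∧ UnivGlue f f₁ (x a) (x b) ν ∧
      IsStableFam f₁ (fun i => x (ρ i) ≫ ν) (fun i => by rw [Category.assoc, hf, hx]) (h + 1) := by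
  have i1 : Flat f := hst.1
  have i2 : IsProper f := hst.2.1
  obtain ⟨X, f₁, ν, hν, hf⟩ := exists_gl (hx a) (hx b) (SecNe.section_ne hst hab) haff
  refine ⟨X, f₁, ν, hf, hν, hν.univGlue (hx a) hf, ?_⟩
  refine isStableFam_of_gl (hx a) (hx b) (σ := fun i => x (ρ i)) (fun i => hx (ρ i)) hν hf ?_
  intro Ω _ _ t
  exact ⟨_, _, _, IsPullback.of_hasPullback f t, fibData_one hx hst hab hρ hρa hρb hm Ω _⟩

end K312.Fam
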