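import Groth.Agent.CurvSt.K312.G1
import Groth.Agent.CurvSt.K312.Clopen

/-!
# Glueing two stable pointed families along a section
-/

set_option autoImplicit false
universe u
open CategoryTheory CategoryTheory.Limits AlgebraicGeometry TopologicalSpace

namespace K312.Fam

open K312.Gl K312.Marks K312.Chi K896.Trans CurvSt K896.Glue

section

variable {C₁ C₂ T : Scheme.{u}} {f₁ : C₁ ⟶ T} {f₂ : C₂ ⟶ T} {m₁ m₂ n h₁ h₂ : ℕ} {x₁ : Fin m₁ → (T ⟶ C₁)}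
  {x₂ : Fin m₂ → (T ⟶ C₂)} (hx₁ : ∀ i, x₁ i ≫ f₁ = 𝟙 T) (hx₂ : ∀ i, x₂ i ≫ f₂ = 𝟙 T)

/-- All sections of the disjoint union. -/
noncomputable def sumSec (x₁ : Fin m₁ → (T ⟶ C₁)) (x₂ : Fin m₂ → (T ⟶ C₂)) (l : Fin m₁ ⊕ Fin m₂) :
    T ⟶ (C₁ ⨿ C₂ : Scheme.{u}) := Sum.elim (fun j => x₁ j ≫ coprod.inl) (fun j => x₂ j ≫ coprod.inr) l

include hx₁ hx₂ in
theorem sumSec_f (l : Fin m₁ ⊕ Fin m₂) : sumSec x₁ x₂ l ≫ coprod.desc f₁ f₂ = 𝟙 T := by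
  obtain (l | l) := l
  · change (x₁ l ≫ coprod.inl) ≫ _ = _
    rw [Category.assoc, coprod.inl_desc, hx₁]
  · change (x₂ l ≫ coprod.inr) ≫ _ = _
    rw [Category.assoc, coprod.inr_desc, hx₂]

variable {Ω : Type u} [Field Ω] {t : Spec (CommRingCat.of Ω) ⟶ T} {Y₁ Y₂ : Scheme.{u}} {i₁ : Y₁ ⟶ C₁} {i₂ : Y₂ ⟶ C₂}
  {q₁ : Y₁ ⟶ Spec (CommRingCat.of Ω)} {q₂ : Y₂ ⟶ Spec (CommRingCat.of Ω)}
  (hP₁ : IsPullback i₁ q₁ f₁ t) (hP₂ : IsPullback i₂ q₂ f₂ t)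

theorem secF_inl (j : Fin m₁) : secF (sumSec_f hx₁ hx₂ (Sum.inl j)) (isPullback_coprod hP₁ hP₂) =
    secF (hx₁ j) hP₁ ≫ coprod.inl := by
  apply (isPullback_coprod hP₁ hP₂).hom_ext
  · rw [secF_fst, Category.assoc, coprod.inl_map, secF_fst_assoc]
    rfl
  · rw [secF_snd, Category.assoc, coprod.inl_desc, secF_snd]

theorem secF_inr (j : Fin m₂) : secF (sumSec_f hx₁ hx₂ (Sum.inr j)) (isPullback_coprod hP₁ hP₂) =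
    secF (hx₂ j) hP₂ ≫ coprod.inr := by
  apply (isPullback_coprod hP₁ hP₂).hom_ext
  · rw [secF_fst, Category.assoc, coprod.inr_map, secF_fst_assoc]
    rfl
  · rw [secF_snd, Category.assoc, coprod.inr_desc, secF_snd]

/-- All marked points of the disjoint union of the fibres. -/
noncomputable def sumPt (l : Fin m₁ ⊕ Fin m₂) : (Y₁ ⨿ Y₂ : Scheme.{u}) :=
  (secF (sumSec_f hx₁ hx₂ l) (isPullback_coprod hP₁ hP₂)) (pt Ω)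

theorem sumPt_inl (j : Fin m₁) : sumPt hx₁ hx₂ hP₁ hP₂ (Sum.inl j) =
    (coprod.inl : Y₁ ⟶ (Y₁ ⨿ Y₂ : Scheme.{u})) (markedPt x₁ hx₁ hP₁ j) := by
  rw [sumPt, secF_inl hx₁ hx₂ hP₁ hP₂, Scheme.Hom.comp_apply]
  rfl

theorem sumPt_inr (j : Fin m₂) : sumPt hx₁ hx₂ hP₁ hP₂ (Sum.inr j) =
    (coprod.inr : Y₂ ⟶ (Y₁ ⨿ Y₂ : Scheme.{u})) (markedPt x₂ hx₂ hP₂ j) := by
  rw [sumPt, secF_inr hx₁ hx₂ hP₁ hP₂, Scheme.Hom.comp_apply]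
  rfl

theorem inl_ne_inr {Y₁ Y₂ : Scheme.{u}} (w : Y₁) (w' : Y₂) : (coprod.inl : Y₁ ⟶ (Y₁ ⨿ Y₂ : Scheme.{u})) w ≠
    (coprod.inr : Y₂ ⟶ (Y₁ ⨿ Y₂ : Scheme.{u})) w' := by
  intro e
  rw [← coprodMk_inl, ← coprodMk_inr] at e
  cases (coprodMk Y₁ Y₂).injective e

theorem range_sumPt : Set.range (sumPt hx₁ hx₂ hP₁ hP₂) =
    (coprod.inl : Y₁ ⟶ (Y₁ ⨿ Y₂ : Scheme.{u})) '' (Set.range (markedPt x₁ hx₁ hP₁)) ∪
      (coprod.inr : Y₂ ⟶ (Y₁ ⨿ Y₂ : Scheme.{u})) '' (Set.range (markedPt x₂ hx₂ hP₂)) := by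
  ext z
  constructor
  · rintro ⟨(j | j), rfl⟩
    · rw [sumPt_inl]
      exact Or.inl ⟨_, ⟨j, rfl⟩, rfl⟩
    · rw [sumPt_inr]
      exact Or.inr ⟨_, ⟨j, rfl⟩, rfl⟩
  · rintro (⟨_, ⟨j, rfl⟩, rfl⟩ | ⟨_, ⟨j, rfl⟩, rfl⟩)
    · exact ⟨Sum.inl j, sumPt_inl hx₁ hx₂ hP₁ hP₂ j⟩
    · exact ⟨Sum.inr j, sumPt_inr hx₁ hx₂ hP₁ hP₂ j⟩

theorem sumPt_injective (h1 : Function.Injective (markedPt x₁ hx₁ hP₁))
    (h2 : Function.Injective (markedPt x₂ hx₂ hP₂)) : Function.Injective (sumPt hx₁ hx₂ hP₁ hP₂) := by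
  rintro (i | i) (j | j) h
  · rw [sumPt_inl, sumPt_inl] at h
    exact congrArg _ (h1 ((coprod.inl : Y₁ ⟶ (Y₁ ⨿ Y₂ : Scheme.{u})).injective h))
  · rw [sumPt_inl, sumPt_inr] at h
    exact absurd h (inl_ne_inr _ _)
  · rw [sumPt_inl, sumPt_inr] at h
    exact absurd h.symm (inl_ne_inr _ _)
  · rw [sumPt_inr, sumPt_inr] at h
    exact congrArg _ (h2 ((coprod.inr : Y₂ ⟶ (Y₁ ⨿ Y₂ : Scheme.{u})).injective h))

/-- Two connected schemes glued at a point. -/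
theorem connectedSpace_coprod {D Y₁ Y₂ Y' : Scheme.{u}} [ConnectedSpace Y₁] [ConnectedSpace Y₂] {s : D ⟶ Y₁}
    {s' : D ⟶ Y₂} {ν' : (Y₁ ⨿ Y₂ : Scheme.{u}) ⟶ Y'} (h : IsGl (s ≫ coprod.inl) (s' ≫ coprod.inr) ν') (d : D) :
    ConnectedSpace Y' := by
  rw [connectedSpace_iff_univ]
  have h1 : Set.univ = Set.range (coprod.inl ≫ ν') ∪ Set.range (coprod.inr ≫ ν') := by
    symm
    rw [Set.eq_univ_iff_forall]
    intro y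
    obtain ⟨z, rfl⟩ := h.surj y
    obtain ⟨(w | w), rfl⟩ := (coprodMk Y₁ Y₂).surjective z
    · left
      rw [coprodMk_inl]
      exact ⟨w, by rw [Scheme.Hom.comp_apply]⟩
    · right
      rw [coprodMk_inr]
      exact ⟨w, by rw [Scheme.Hom.comp_apply]⟩
  rw [h1]
  refine IsConnected.union ⟨(coprod.inl ≫ ν') (s d), ⟨_, rfl⟩, ⟨s' d, ?_⟩⟩
    (isConnected_range (coprod.inl ≫ ν').continuous) (isConnected_range (coprod.inr ≫ ν').continuous)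
  rw [← Scheme.Hom.comp_apply, ← Scheme.Hom.comp_apply, ← Category.assoc, ← Category.assoc, h.w]

theorem fibData_two [IsAlgClosed Ω] (hst₁ : IsStableFam f₁ x₁ hx₁ h₁) (hst₂ : IsStableFam f₂ x₂ hx₂ h₂) {a : Fin m₁}
    {b : Fin m₂} {ρ : Fin n → Fin m₁ ⊕ Fin m₂} (hρ : Function.Injective ρ) (hρa : ∀ i, ρ i ≠ Sum.inl a)
    (hρb : ∀ i, ρ i ≠ Sum.inr b) (hm : m₁ + m₂ = n + 2) :
    FibData (sumSec_f hx₁ hx₂ (Sum.inl a)) (sumSec_f hx₁ hx₂ (Sum.inr b)) (σ := fun i => sumSec x₁ x₂ (ρ i))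
      (fun i => sumSec_f hx₁ hx₂ (ρ i)) (h₁ + h₂) (isPullback_coprod hP₁ hP₂) := by
  obtain ⟨hws₁, hinj₁, hconn₁, hgen₁, hn₁⟩ := isStablePtd_iff.mp (hst₁.2.2.2 Ω t Y₁ i₁ q₁ hP₁)
  obtain ⟨hws₂, hinj₂, hconn₂, hgen₂, hn₂⟩ := isStablePtd_iff.mp (hst₂.2.2.2 Ω t Y₂ i₂ q₂ hP₂)
  have hws := hws₁.coprod hws₂
  have hinj := sumPt_injective hx₁ hx₂ hP₁ hP₂ hinj₁ hinj₂
  rw [← range_sumPt, range_eq hρ (a := Sum.inl a) (b := Sum.inr b) (by simp) hρa hρb (by simp [hm])] at hws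
  have i1 : IsProper q₁ := hws₁.proper
  have i2 : IsProper q₂ := hws₂.proper
  have r1 : IsReduced Y₁ := by
    let _ : Y₁.Over (Spec (CommRingCat.of Ω)) := ⟨q₁⟩
    have hq3 : IsProper (Y₁ ↘ (Spec (CommRingCat.of Ω))) := i1
    exact Groth.Agent.CurvesC.GenusOne512.isReduced_of_atWorstNodal Ω Y₁ hws₁.nodal
  have r2 : IsReduced Y₂ := by
    let _ : Y₂.Over (Spec (CommRingCat.of Ω)) := ⟨q₂⟩
    have hq3 : IsProper (Y₂ ↘ (Spec (CommRingCat.of Ω))) := i2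
    exact Groth.Agent.CurvesC.GenusOne512.isReduced_of_atWorstNodal Ω Y₂ hws₂.nodal
  refine ⟨hws, fun i j hij => hρ (hinj hij), fun j hj => hρa j (hinj hj), fun j hj => hρb j (hinj hj), ?_, ?_, ?_⟩
  · rw [chi_coprod, chi_conn q₁ (topologicalKrullDim_le_of_pure hws₁.pure),
      chi_conn q₂ (topologicalKrullDim_le_of_pure hws₂.pure), hgen₁, hgen₂]
    push_cast
    ring
  · intro Y' ν' hν'
    rw [secF_inl hx₁ hx₂ hP₁ hP₂, secF_inr hx₁ hx₂ hP₁ hP₂] at hν'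
    exact connectedSpace_coprod hν' (pt Ω)
  · omega

end

/-- **Glueing two stable pointed families along a section.** -/
theorem exists_push {C₁ C₂ T : Scheme.{u}} [IsLocallyNoetherian T] {f₁ : C₁ ⟶ T} {f₂ : C₂ ⟶ T} {m₁ m₂ n h₁ h₂ : ℕ}
    {x₁ : Fin m₁ → (T ⟶ C₁)} {x₂ : Fin m₂ → (T ⟶ C₂)} (hx₁ : ∀ i, x₁ i ≫ f₁ = 𝟙 T) (hx₂ : ∀ i, x₂ i ≫ f₂ = 𝟙 T)
    (hst₁ : IsStableFam f₁ x₁ hx₁ h₁) (hst₂ : IsStableFam f₂ x₂ hx₂ h₂) (a : Fin m₁) (b : Fin m₂)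
    {ρ : Fin n → Fin m₁ ⊕ Fin m₂} (hρ : Function.Injective ρ) (hρa : ∀ i, ρ i ≠ Sum.inl a)
    (hρb : ∀ i, ρ i ≠ Sum.inr b) (hm : m₁ + m₂ = n + 2) :
    ∃ (X : Scheme.{u}) (f : X ⟶ T) (ν₁ : C₁ ⟶ X) (ν₂ : C₂ ⟶ X) (h1 : ν₁ ≫ f = f₁) (h2 : ν₂ ≫ f = f₂),
      IsGl (x₁ a ≫ coprod.inl) (x₂ b ≫ coprod.inr) (coprod.desc ν₁ ν₂) ∧ UnivPush f₁ f₂ f (x₁ a) (x₂ b) ν₁ ν₂ ∧
      IsStableFam f (fun i => Sum.elim (fun j => x₁ j ≫ ν₁) (fun j => x₂ j ≫ ν₂) (ρ i))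
        (fun i => by
          obtain (j | j) := ρ i
          · simp only [Sum.elim_inl, Category.assoc, h1, hx₁]
          · simp only [Sum.elim_inr, Category.assoc, h2, hx₂]) (h₁ + h₂) := by
  have i1 : Flat f₁ := hst₁.1
  have i2 : IsProper f₁ := hst₁.2.1
  have i3 : Flat f₂ := hst₂.1
  have i4 : IsProper f₂ := hst₂.2.1
  have i5 : Flat (coprod.desc f₁ f₂) := flat_desc f₁ f₂
  have i6 : IsProper (coprod.desc f₁ f₂) := Groth.Agent.Ega1.CDLift.isProper_coprodDesc f₁ f₂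
  obtain ⟨X, f, ν₁, ν₂, hν, h1, h2⟩ := exists_gl_coprod (hx₁ a) (hx₂ b)
  have hf : coprod.desc ν₁ ν₂ ≫ f = coprod.desc f₁ f₂ := by
    apply coprod.hom_ext
    · rw [coprod.inl_desc_assoc, coprod.inl_desc, h1]
    · rw [coprod.inr_desc_assoc, coprod.inr_desc, h2]
  refine ⟨X, f, ν₁, ν₂, h1, h2, hν, hν.univPush (hx₁ a) h1 h2, ?_⟩
  have key := isStableFam_of_gl (sumSec_f hx₁ hx₂ (Sum.inl a)) (sumSec_f hx₁ hx₂ (Sum.inr b))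
    (σ := fun i => sumSec x₁ x₂ (ρ i)) (fun i => sumSec_f hx₁ hx₂ (ρ i)) hν hf (G := h₁ + h₂) (fun Ω _ _ t =>
    ⟨_, _, _, isPullback_coprod (IsPullback.of_hasPullback f₁ t) (IsPullback.of_hasPullback f₂ t),
      fibData_two hx₁ hx₂ (IsPullback.of_hasPullback f₁ t) (IsPullback.of_hasPullback f₂ t) hst₁ hst₂ hρ hρa hρb hm⟩)
  have e : (fun i => sumSec x₁ x₂ (ρ i) ≫ coprod.desc ν₁ ν₂) =
      fun i => Sum.elim (fun j => x₁ j ≫ ν₁) (fun j => x₂ j ≫ ν₂) (ρ i) := by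
    funext i
    obtain (j | j) := ρ i
    · change (x₁ j ≫ coprod.inl) ≫ coprod.desc ν₁ ν₂ = x₁ j ≫ ν₁
      rw [Category.assoc, coprod.inl_desc]
    · change (x₂ j ≫ coprod.inr) ≫ coprod.desc ν₁ ν₂ = x₂ j ≫ ν₂
      rw [Category.assoc, coprod.inr_desc]
  simp only [← e]
  exact key

end K312.Fam
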