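import Groth.Agent.Pinch.K838.FerrProps
import Groth.Agent.Pinch.K838.FerrBC
import Groth.Agent.HilbZeta.K842.CoprodRank
import Groth.Agent.Variety.K429.LinEmb
import Groth.Agent.CurvSt.K896.Ferr
import Groth.Agent.S1442

/-!
# Glueing a scheme along two disjoint closed immersions

`IsGl σ τ ν`: `σ, τ : D ⟶ C` are disjoint closed immersions and `ν : C ⟶ C'` is the Ferrand coequalizer.
-/

set_option autoImplicit false
universe u
open CategoryTheory CategoryTheory.Limits AlgebraicGeometry TopologicalSpace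

namespace K312.Gl

open K838.Ferr

variable {D C C' : Scheme.{u}}

/-- The codiagonal. -/
noncomputable abbrev fold (D : Scheme.{u}) : (D ⨿ D : Scheme.{u}) ⟶ D := coprod.desc (𝟙 D) (𝟙 D)

/-- `C'` is `C` glued along `σ` and `τ`. -/
structure IsGl (σ τ : D ⟶ C) (ν : C ⟶ C') : Prop where
  ferr : IsFerr (coprod.desc σ τ) (fold D) ν (σ ≫ ν)

theorem isClosedImmersion_desc {σ τ : D ⟶ C} (h1 : IsClosedImmersion σ) (h2 : IsClosedImmersion τ)
    (h : ∀ d e, σ d ≠ τ e) : IsClosedImmersion (coprod.desc σ τ) := by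
  refine K429.LinEmb.isClosedImmersion_coprodDesc σ τ ?_
  rw [Set.disjoint_left]
  rintro _ ⟨d, rfl⟩ ⟨e, he⟩
  exact h d e he.symm

instance isFinite_fold (D : Scheme.{u}) : IsFinite (fold D) := inferInstance

instance isClosedImmersion_inl (X Y : Scheme.{u}) : IsClosedImmersion (coprod.inl : X ⟶ (X ⨿ Y : Scheme.{u})) := by
  refine IsClosedImmersion.of_isPreimmersion _ ?_
  rw [(isCompl_range_inl_inr X Y).eq_compl]
  exact (coprod.inr : Y ⟶ (X ⨿ Y : Scheme.{u})).isOpenEmbedding.isOpen_range.isClosed_compl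

instance isClosedImmersion_inr (X Y : Scheme.{u}) : IsClosedImmersion (coprod.inr : Y ⟶ (X ⨿ Y : Scheme.{u})) := by
  refine IsClosedImmersion.of_isPreimmersion _ ?_
  rw [← (isCompl_range_inl_inr X Y).compl_eq]
  exact (coprod.inl : X ⟶ (X ⨿ Y : Scheme.{u})).isOpenEmbedding.isOpen_range.isClosed_compl

namespace IsGl

variable {σ τ : D ⟶ C} {ν : C ⟶ C'} (h : IsGl σ τ ν)
include h

theorem closed : IsClosedImmersion (coprod.desc σ τ) := h.ferr.closed

theorem w : σ ≫ ν = τ ≫ ν := by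
  have h1 := congrArg (fun g => coprod.inr ≫ g) h.ferr.w
  simp only [coprod.inr_desc_assoc, Category.id_comp] at h1
  exact h1.symm

theorem closed_left : IsClosedImmersion σ := by
  have h1 := h.closed
  have h3 : coprod.inl ≫ coprod.desc σ τ = σ := coprod.inl_desc _ _
  rw [← h3]
  infer_instance

theorem closed_right : IsClosedImmersion τ := by
  have h1 := h.closed
  have h3 : coprod.inr ≫ coprod.desc σ τ = τ := coprod.inr_desc _ _
  rw [← h3]
  infer_instance

theorem ne (d e : D) : σ d ≠ τ e := by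
  intro h1
  have h2 := h.closed
  have h3 : (coprod.desc σ τ) ((coprod.inl : D ⟶ (D ⨿ D : Scheme.{u})) d) =
      (coprod.desc σ τ) ((coprod.inr : D ⟶ (D ⨿ D : Scheme.{u})) e) := by
    rw [← Scheme.Hom.comp_apply, ← Scheme.Hom.comp_apply, coprod.inl_desc, coprod.inr_desc, h1]
  have h4 := (coprod.desc σ τ).isClosedEmbedding.injective h3
  rw [← coprodMk_inl, ← coprodMk_inr] at h4
  have h5 := (coprodMk D D).injective h4
  cases h5

theorem isAffineHom : IsAffineHom ν := h.ferr.affine_left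

theorem isPushout : IsPushout (coprod.desc σ τ) (fold D) ν (σ ≫ ν) := by
  have h1 := h.ferr.closed
  have h2 := h.ferr.affine_left
  have h3 := h.ferr.affine_right
  refine isPushout_of_cover h.ferr.w fun x => ?_
  obtain ⟨O, hO, hx, -⟩ := exists_isAffineOpen_mem_and_subset (X := C') (x := x) (U := ⊤) trivial
  exact ⟨O, hx, hO, h.ferr.sec O⟩

theorem isPullback : IsPullback (coprod.desc σ τ) (fold D) ν (σ ≫ ν) := by
  have h1 := h.ferr.closed
  have h2 := h.ferr.affine_left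
  have h3 := h.ferr.affine_right
  exact (props_of_isPushout (Adapted.of_affine h.ferr.w) h.isPushout).2.1

theorem isClosedImmersion : IsClosedImmersion (σ ≫ ν) := by
  have h1 := h.ferr.closed
  have h2 := h.ferr.affine_left
  have h3 := h.ferr.affine_right
  exact (props_of_isPushout (Adapted.of_affine h.ferr.w) h.isPushout).2.2.1

theorem isFinite : IsFinite ν := K838.FerrProps.isFinite_left h.ferr

theorem surj : Function.Surjective ν := by
  have h1 := h.ferr.closed
  have h2 := h.ferr.affine_left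
  have h3 := h.ferr.affine_right
  intro x
  rcases (props_of_isPushout (Adapted.of_affine h.ferr.w) h.isPushout).2.2.2.2.1 x with h4 | ⟨y, hy⟩
  · exact h4
  · exact ⟨σ y, by rw [← Scheme.Hom.comp_apply, hy]⟩

/-- Universal property. -/
theorem existsUnique {Z : Scheme.{u}} (u : C ⟶ Z) (hu : σ ≫ u = τ ≫ u) : ∃! v : C' ⟶ Z, ν ≫ v = u := by
  have h1 := h.isPushout
  have hw : coprod.desc σ τ ≫ u = fold D ≫ (σ ≫ u) := by
    apply coprod.hom_ext
    · rw [coprod.inl_desc_assoc, coprod.inl_desc_assoc, Category.id_comp]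
    · rw [coprod.inr_desc_assoc, coprod.inr_desc_assoc, Category.id_comp, hu]
  refine ⟨h1.desc u (σ ≫ u) hw, h1.inl_desc _ _ _, fun v hv => ?_⟩
  apply h1.hom_ext
  · rw [hv, h1.inl_desc]
  · rw [h1.inr_desc, Category.assoc, hv]

theorem hom_ext {Z : Scheme.{u}} {v v' : C' ⟶ Z} (hv : ν ≫ v = ν ≫ v') : v = v' :=
  (h.existsUnique (ν ≫ v) (by rw [← Category.assoc, h.w, Category.assoc])).unique rfl hv.symm

/-- A point of `C` over a glued point. -/
theorem eq_or_eq {x : C} {d : D} (hx : ν x = ν (σ d)) : x = σ d ∨ x = τ d := by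
  have h1 := h.isPullback
  obtain ⟨z, hz1, hz2⟩ := Scheme.exists_preimage_of_isPullback h1 x d
    (by rw [hx, Scheme.Hom.comp_apply])
  obtain ⟨(y | y), rfl⟩ := (coprodMk D D).surjective z
  · left
    rw [coprodMk_inl, ← Scheme.Hom.comp_apply, coprod.inl_desc] at hz1 hz2
    have : y = d := hz2
    rw [← hz1, this]
  · right
    rw [coprodMk_inr, ← Scheme.Hom.comp_apply, coprod.inr_desc] at hz1 hz2
    have : y = d := hz2
    rw [← hz1, this]

theorem apply_eq (d : D) : ν (τ d) = ν (σ d) := by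
  rw [← Scheme.Hom.comp_apply, ← h.w, Scheme.Hom.comp_apply]

/-- The complement of the glued points. -/
noncomputable def off : C'.Opens :=
  ⟨(Set.range (σ ≫ ν))ᶜ, by
    have := h.isClosedImmersion
    exact (σ ≫ ν).isClosedEmbedding.isClosed_range.isOpen_compl⟩

theorem mem_off {y : C'} : y ∈ h.off ↔ ∀ d, ν (σ d) ≠ y := by
  change y ∈ (Set.range (σ ≫ ν))ᶜ ↔ _
  simp only [Set.mem_compl_iff, Set.mem_range, not_exists, Scheme.Hom.comp_apply, ne_eq]

theorem preimage_off : (σ ≫ ν) ⁻¹ᵁ h.off = ⊥ := by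
  ext s
  simp only [Opens.coe_bot, Set.mem_empty_iff_false, iff_false]
  exact fun hs => hs ⟨s, rfl⟩

theorem isIso_restrict (O : C'.Opens) (hO : O ≤ h.off) : IsIso (ν ∣_ O) := by
  refine K896.Ferr.isIso_restrict h.ferr O ?_
  rw [eq_bot_iff, ← h.preimage_off]
  exact fun x hx => hO hx

theorem isIso_off : IsIso (ν ∣_ h.off) := h.isIso_restrict _ le_rfl

theorem mem_off_iff {x : C} : ν x ∈ h.off ↔ ∀ d, x ≠ σ d ∧ x ≠ τ d := by
  rw [h.mem_off]
  constructor
  · intro h1 d
    refine ⟨?_, ?_⟩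
    · rintro rfl; exact h1 d rfl
    · rintro rfl; exact h1 d (h.apply_eq d).symm
  · intro h1 d hd
    rcases h.eq_or_eq hd.symm with h2 | h2
    · exact (h1 d).1 h2
    · exact (h1 d).2 h2

/-- `ν` is injective away from the glued points. -/
theorem injective_off {x x' : C} (hx : ν x ∈ h.off) (hxx' : ν x' = ν x) : x' = x := by
  have h1 := h.isIso_off
  have hx' : x' ∈ ν ⁻¹ᵁ h.off := by
    change ν x' ∈ h.off
    rwa [hxx']
  have key : ∀ w w' : (ν ⁻¹ᵁ h.off).toScheme, ν ((ν ⁻¹ᵁ h.off).ι w) = ν ((ν ⁻¹ᵁ h.off).ι w') → w = w' := by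
    intro w w' hw
    apply (ν ∣_ h.off).injective
    apply h.off.ι.injective
    rw [← Scheme.Hom.comp_apply, ← Scheme.Hom.comp_apply, morphismRestrict_ι, Scheme.Hom.comp_apply,
      Scheme.Hom.comp_apply]
    exact hw
  exact congrArg Subtype.val (key ⟨x', hx'⟩ ⟨x, hx⟩ hxx')

theorem apply_eq_iff {x x' : C} : ν x' = ν x ↔ x' = x ∨ (∃ d, x = σ d ∧ x' = τ d) ∨ ∃ d, x = τ d ∧ x' = σ d := by
  constructor
  · intro hx
    by_cases h1 : ν x ∈ h.off
    · exact Or.inl (h.injective_off h1 hx)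
    · rw [h.mem_off] at h1
      push Not at h1
      obtain ⟨d, hd⟩ := h1
      rcases h.eq_or_eq hd.symm with h2 | h2 <;> rcases h.eq_or_eq (hx.trans hd.symm) with h3 | h3
      · exact Or.inl (h3.trans h2.symm)
      · exact Or.inr (Or.inl ⟨d, h2, h3⟩)
      · exact Or.inr (Or.inr ⟨d, h2, h3⟩)
      · exact Or.inl (h3.trans h2.symm)
  · rintro (rfl | ⟨d, rfl, rfl⟩ | ⟨d, rfl, rfl⟩)
    · rfl
    · exact h.apply_eq d
    · exact (h.apply_eq d).symm

theorem comp_iso {C'' : Scheme.{u}} (e : C' ⟶ C'') [IsIso e] : IsGl σ τ (ν ≫ e) :=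
  ⟨by rw [← Category.assoc]; exact h.ferr.comp_iso e⟩

end IsGl

/-- Sections of the glued scheme: injectivity. -/
theorem IsGl.injective_app {σ τ : D ⟶ C} {ν : C ⟶ C'} (h : IsGl σ τ ν) (O : C'.Opens) :
    Function.Injective (ν.app O) := by
  have h1 := (secSq_iff h.ferr.w O).mp (h.ferr.sec O)
  intro r r' hr
  refine h1.2 r r' hr ?_
  rw [Scheme.Hom.comp_app]
  change σ.app _ (ν.app O r) = σ.app _ (ν.app O r')
  rw [hr]

/-- Uniqueness of the glued scheme. -/
theorem IsGl.exists_iso {σ τ : D ⟶ C} {ν : C ⟶ C'} (h : IsGl σ τ ν) {C'' : Scheme.{u}} {ν' : C ⟶ C''}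
    (h' : IsGl σ τ ν') : ∃ e : C' ≅ C'', ν ≫ e.hom = ν' := by
  obtain ⟨a, ha, -⟩ := h.existsUnique ν' h'.w
  obtain ⟨b, hb, -⟩ := h'.existsUnique ν h.w
  refine ⟨⟨a, b, ?_, ?_⟩, ha⟩
  · apply h.hom_ext
    rw [← Category.assoc, ha, hb, Category.comp_id]
  · apply h'.hom_ext
    rw [← Category.assoc, hb, ha, Category.comp_id]

/-- Existence of the glued scheme. -/
theorem exists_isGl {σ τ : D ⟶ C} (h1 : IsClosedImmersion σ) (h2 : IsClosedImmersion τ)
    (h : ∀ d e, σ d ≠ τ e) (haff : ∀ d : D, ∃ U : C.Opens, IsAffineOpen U ∧ σ d ∈ U ∧ τ d ∈ U) :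
    ∃ (C' : Scheme.{u}) (ν : C ⟶ C'), IsGl σ τ ν := by
  have hcl := isClosedImmersion_desc h1 h2 h
  have hA : Adapted (coprod.desc σ τ) (fold D) := by
    intro y
    obtain ⟨U, V, hU, hV, hy, e⟩ := Groth.Agent.S1442.result (coprod.desc σ τ) (fold D) (fun d => by
      obtain ⟨U, hU, hσ, hτ⟩ := haff d
      refine ⟨U, hU, ?_⟩
      intro z hz
      obtain ⟨(y | y), rfl⟩ := (coprodMk D D).surjective z
      · rw [Set.mem_preimage, Set.mem_singleton_iff, coprodMk_inl, ← Scheme.Hom.comp_apply, coprod.inl_desc] at hz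
        have hz' : y = d := hz
        change (coprod.desc σ τ) _ ∈ U
        rw [coprodMk_inl, ← Scheme.Hom.comp_apply, coprod.inl_desc, hz']
        exact hσ
      · rw [Set.mem_preimage, Set.mem_singleton_iff, coprodMk_inr, ← Scheme.Hom.comp_apply, coprod.inr_desc] at hz
        have hz' : y = d := hz
        change (coprod.desc σ τ) _ ∈ U
        rw [coprodMk_inr, ← Scheme.Hom.comp_apply, coprod.inr_desc, hz']
        exact hτ) y
    exact ⟨U, V, hU, hV, hy, e⟩
  obtain ⟨W, a, b, -, hf, -⟩ := exists_isFerr hA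
  have hb : b = σ ≫ a := by
    have h3 := congrArg (fun g => coprod.inl ≫ g) hf.w
    simp only [coprod.inl_desc_assoc, Category.id_comp] at h3
    exact h3.symm
  subst hb
  exact ⟨W, a, ⟨hf⟩⟩

end K312.Gl
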