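import Groth.Agent.CurvSt.K312.Gl
import Mathlib.AlgebraicGeometry.Morphisms.Flat

/-!
# Base change of a glueing, and properties over a base
-/

set_option autoImplicit false
universe u
open CategoryTheory CategoryTheory.Limits AlgebraicGeometry TopologicalSpace

namespace K312.Gl

open K838.Ferr

theorem isPullback_coprod {X Y T T' X' Y' : Scheme.{u}} {p : X ⟶ T} {q : Y ⟶ T} {g : T' ⟶ T}
    {p' : X' ⟶ T'} {q' : Y' ⟶ T'} {m : X' ⟶ X} {n : Y' ⟶ Y} (h1 : IsPullback m p' p g)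
    (h2 : IsPullback n q' q g) :
    IsPullback (coprod.map m n) (coprod.desc p' q') (coprod.desc p q) g := by
  obtain ⟨e, he1, he2⟩ := K842.CoprodRank.exists_iso_pullback_coprod p q g
  refine IsPullback.of_iso_pullback ⟨?_⟩
    ((coprod.mapIso h1.isoPullback h2.isoPullback) ≪≫ e) ?_ ?_
  · apply coprod.hom_ext
    · rw [coprod.inl_map_assoc, coprod.inl_desc, coprod.inl_desc_assoc, h1.w]
    · rw [coprod.inr_map_assoc, coprod.inr_desc, coprod.inr_desc_assoc, h2.w]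
  · rw [Iso.trans_hom, Category.assoc, he2]
    apply coprod.hom_ext
    · simp
    · simp
  · rw [Iso.trans_hom, Category.assoc, he1]
    apply coprod.hom_ext
    · simp
    · simp

theorem flat_desc {X Y T : Scheme.{u}} (p : X ⟶ T) (q : Y ⟶ T) [Flat p] [Flat q] : Flat (coprod.desc p q) := by
  have : IsZariskiLocalAtSource (@Flat.{u}) := HasRingHomProperty.instIsZariskiLocalAtSource (Q := RingHom.Flat)
  refine (IsZariskiLocalAtSource.iff_of_openCover (P := @Flat) (coprodOpenCover.{u, u} X Y)).2 ?_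
  rintro (_ | _)
  · change Flat (coprod.inl ≫ coprod.desc p q)
    rw [coprod.inl_desc]
    infer_instance
  · change Flat (coprod.inr ≫ coprod.desc p q)
    rw [coprod.inr_desc]
    infer_instance

variable {D C C' : Scheme.{u}} {σ τ : D ⟶ C} {ν : C ⟶ C'}

/-- Base change of a glueing along closed immersions flat over the base. -/
theorem IsGl.baseChange (h : IsGl σ τ ν) {T T' : Scheme.{u}} {f' : C' ⟶ T} {g : T' ⟶ T}
    [Flat (σ ≫ ν ≫ f')]
    {C₁ D₁ C₁' : Scheme.{u}} {gC : C₁ ⟶ C} {f₁ : C₁ ⟶ T'} {gD : D₁ ⟶ D} {d₁ : D₁ ⟶ T'} {gC' : C₁' ⟶ C'}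
    {f₁' : C₁' ⟶ T'}
    (hC : IsPullback gC f₁ (ν ≫ f') g) (hD : IsPullback gD d₁ (σ ≫ ν ≫ f') g) (hC' : IsPullback gC' f₁' f' g)
    {σ₁ τ₁ : D₁ ⟶ C₁} {ν₁ : C₁ ⟶ C₁'} (hσ : σ₁ ≫ gC = gD ≫ σ) (hσ' : σ₁ ≫ f₁ = d₁)
    (hτ : τ₁ ≫ gC = gD ≫ τ) (hτ' : τ₁ ≫ f₁ = d₁)
    (hν : ν₁ ≫ gC' = gC ≫ ν) (hν' : ν₁ ≫ f₁' = f₁) : IsGl σ₁ τ₁ ν₁ := by
  have hX : IsPullback gC ν₁ ν gC' := by
    refine IsPullback.of_bot ?_ hν.symm hC'
    rw [hν']
    exact hC
  have hS : IsPullback gD σ₁ σ gC := by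
    refine IsPullback.of_bot ?_ hσ.symm hC
    rw [hσ']
    exact hD
  have hS' : IsPullback gD τ₁ τ gC := by
    refine IsPullback.of_bot ?_ hτ.symm hC
    rw [hτ', ← Category.assoc, ← h.w, Category.assoc]
    exact hD
  have hY : IsPullback gD (σ₁ ≫ ν₁) (σ ≫ ν) gC' := hS.paste_vert hX
  have hZ := isPullback_coprod hS hS'
  have hw : σ₁ ≫ ν₁ = τ₁ ≫ ν₁ := by
    apply hC'.hom_ext
    · rw [Category.assoc, Category.assoc, hν, reassoc_of% hσ, reassoc_of% hτ, h.w]
    · rw [Category.assoc, Category.assoc, hν', hσ', hτ']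
  have hflat : Flat (coprod.desc σ τ ≫ ν ≫ f') := by
    have e : coprod.desc σ τ ≫ ν ≫ f' = coprod.desc (σ ≫ ν ≫ f') (τ ≫ ν ≫ f') := by
      apply coprod.hom_ext <;> simp
    have : Flat (τ ≫ ν ≫ f') := by
      rw [← Category.assoc, ← h.w, Category.assoc]
      infer_instance
    rw [e]
    exact flat_desc _ _
  have haff := h.ferr.affine_left
  have haff' := h.ferr.affine_right
  have hcl := h.ferr.closed
  have hp := K838.FerrBC.isPushout_baseChange_of_flat h.ferr hC' hX hY hZ (j' := fold D₁)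
    (by apply coprod.hom_ext <;> simp) (by apply coprod.hom_ext <;> simp [hw])
  have h1 : IsAffineHom ν₁ := MorphismProperty.of_isPullback (P := @IsAffineHom) hX inferInstance
  have h2 : IsAffineHom (σ₁ ≫ ν₁) := MorphismProperty.of_isPullback (P := @IsAffineHom) hY inferInstance
  have h3 : IsClosedImmersion (coprod.desc σ₁ τ₁) :=
    MorphismProperty.of_isPullback (P := @IsClosedImmersion) hZ inferInstance
  exact ⟨isFerr_of_isPushout hp⟩

section Base

variable {T : Scheme.{u}} (f' : C' ⟶ T)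

theorem IsGl.surj' (h : IsGl σ τ ν) : ∀ w : C', (∃ x, ν x = w) ∨ ∃ y, (σ ≫ ν) y = w := fun w => Or.inl (h.surj w)

theorem IsGl.flat (h : IsGl σ τ ν) [Flat (ν ≫ f')] [Flat (σ ≫ ν ≫ f')] : Flat f' := by
  have h1 : Flat (coprod.desc σ τ ≫ ν ≫ f') := by
    have e : coprod.desc σ τ ≫ ν ≫ f' = coprod.desc (σ ≫ ν ≫ f') (τ ≫ ν ≫ f') := by
      apply coprod.hom_ext <;> simp
    have : Flat (τ ≫ ν ≫ f') := by
      rw [← Category.assoc, ← h.w, Category.assoc]
      infer_instance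
    rw [e]
    exact flat_desc _ _
  have h2 : Flat ((σ ≫ ν) ≫ f') := by
    rw [Category.assoc]
    infer_instance
  exact K838.FerrBC.flat_corner h.ferr

theorem IsGl.isProper (h : IsGl σ τ ν) [IsLocallyNoetherian T] [IsProper (ν ≫ f')] [IsProper (σ ≫ ν ≫ f')] :
    IsProper f' := by
  have h1 : IsProper ((σ ≫ ν) ≫ f') := by
    rw [Category.assoc]
    infer_instance
  have h2 := h.isFinite
  have h3 := h.isClosedImmersion
  have h4 := K838.FerrProps.isSeparated_of (s := f') h.surj'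
  have h5 := K838.FerrProps.universallyClosed_of (s := f') h.surj'
  have h6 := K838.FerrProps.locallyOfFiniteType h.ferr f'
  exact {}

end Base

end K312.Gl
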