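import Groth.Agent.CurvSt.K312.Gl
import Groth.Agent.CurvSt.K896.PinchNode
import Groth.Agent.CurvSt.K896.Trans
import Groth.Agent.Sga3C.DimTop
import Groth.Agent.CurvesB.NodeSch2
import Groth.Agent.CurvesB.NodeSub
import Groth.Agent.CurvesA.DimOne
import Groth.Agent.Ega43.DedekindOpen

/-!
# Glueing two rational smooth points of a curve gives a node
-/

set_option autoImplicit false
universe u
open CategoryTheory CategoryTheory.Limits AlgebraicGeometry TopologicalSpace IsLocalRing

namespace K312.GlNode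

open K312.Gl K896.PinchNode K896.Trans Groth.Agent Groth.Agent.CurvesB.Node

section Fold

variable (k : Type u) [Field k]

theorem fold_eq : fold (Spec (CommRingCat.of k)) =
    coprodSpec k k ≫ Spec.map (CommRingCat.ofHom (algebraMap k (k × k))) := by
  apply coprod.hom_ext
  · rw [coprod.inl_desc, coprodSpec_inl_assoc, ← Spec.map_comp, ← CommRingCat.ofHom_comp]
    exact (Spec.map_id _).symm
  · rw [coprod.inr_desc, coprodSpec_inr_assoc, ← Spec.map_comp, ← CommRingCat.ofHom_comp]
    exact (Spec.map_id _).symm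

instance isIso_appTop_coprodSpec : IsIso (coprodSpec k k).appTop :=
  inferInstanceAs (IsIso ((coprodSpec k k).app ⊤))

/-- Functions on two points. -/
noncomputable def eΓ : Γ((Spec (CommRingCat.of k) ⨿ Spec (CommRingCat.of k) : Scheme.{u}), ⊤) ≅ CommRingCat.of (k × k) :=
  (asIso (coprodSpec k k).appTop).symm ≪≫ Scheme.ΓSpecIso (CommRingCat.of (k × k))

theorem fold_appTop : (fold (Spec (CommRingCat.of k))).appTop ≫ (eΓ k).hom =
    (Scheme.ΓSpecIso (CommRingCat.of k)).hom ≫ CommRingCat.ofHom (algebraMap k (k × k)) := by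
  have h1 : (fold (Spec (CommRingCat.of k))).appTop =
      (Spec.map (CommRingCat.ofHom (algebraMap k (k × k)))).appTop ≫ (coprodSpec k k).appTop := by
    rw [← Scheme.Hom.comp_appTop]
    exact congrArg (fun g : (Spec (CommRingCat.of k) ⨿ Spec (CommRingCat.of k) : Scheme.{u}) ⟶ Spec (CommRingCat.of k) =>
      g.appTop) (fold_eq k)
  rw [h1, eΓ, Iso.trans_hom, Iso.symm_hom, asIso_inv, Category.assoc, IsIso.hom_inv_id_assoc,
    Scheme.ΓSpecIso_naturality]

theorem formallyUnramified_fold : (fold (Spec (CommRingCat.of k))).appTop.hom.FormallyUnramified := by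
  have h1 : (fold (Spec (CommRingCat.of k))).appTop = (Scheme.ΓSpecIso (CommRingCat.of k)).hom ≫
      CommRingCat.ofHom (algebraMap k (k × k)) ≫ (eΓ k).inv := by
    rw [← Category.assoc, ← fold_appTop, Category.assoc, Iso.hom_inv_id, Category.comp_id]
  rw [h1]
  have h2 : (algebraMap k (k × k)).FormallyUnramified := by
    rw [RingHom.formallyUnramified_algebraMap]
    let e : (Fin 2 → k) ≃ₐ[k] k × k := AlgEquiv.ofRingEquiv (f := RingEquiv.piFinTwo (fun _ => k)) (fun _ => rfl)
    exact Algebra.FormallyUnramified.of_equiv e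
  have h3 := RingHom.FormallyUnramified.respectsIso.{u}
  rw [CommRingCat.hom_comp, CommRingCat.hom_comp]
  exact h3.2 _ (Scheme.ΓSpecIso (CommRingCat.of k)).commRingCatIsoToRingEquiv
    (h3.1 _ (eΓ k).symm.commRingCatIsoToRingEquiv h2)

theorem finrank_fold :
    @Module.finrank Γ(Spec (CommRingCat.of k), ⊤) Γ((Spec (CommRingCat.of k) ⨿ Spec (CommRingCat.of k) : Scheme.{u}), ⊤)
      _ _ (fold (Spec (CommRingCat.of k))).appTop.hom.toAlgebra.toModule = 2 := by
  let _ : Algebra Γ(Spec (CommRingCat.of k), ⊤) Γ((Spec (CommRingCat.of k) ⨿ Spec (CommRingCat.of k) : Scheme.{u}), ⊤) :=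
    (fold (Spec (CommRingCat.of k))).appTop.hom.toAlgebra
  have h := Algebra.rank_eq_of_equiv_equiv (R := Γ(Spec (CommRingCat.of k), ⊤)) (R' := k)
    (S := Γ((Spec (CommRingCat.of k) ⨿ Spec (CommRingCat.of k) : Scheme.{u}), ⊤)) (S' := k × k)
    (Scheme.ΓSpecIso (CommRingCat.of k)).commRingCatIsoToRingEquiv (eΓ k).commRingCatIsoToRingEquiv (by
      ext r
      · exact congrArg Prod.fst (congr($(fold_appTop k) r)).symm
      · exact congrArg Prod.snd (congr($(fold_appTop k) r)).symm)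
  have h2 : Module.finrank k (k × k) = 2 := by
    rw [Module.finrank_prod, Module.finrank_self]
  rw [← h2]
  exact congrArg Cardinal.toNat h

theorem isField_spec : IsField Γ(Spec (CommRingCat.of k), ⊤) :=
  MulEquiv.isField (Field.toIsField k) (Scheme.ΓSpecIso (CommRingCat.of k)).commRingCatIsoToRingEquiv.toMulEquiv

end Fold

variable {k : Type u} [Field k] {X X' : Scheme.{u}} {q : X ⟶ Spec (CommRingCat.of k)}
  {q' : X' ⟶ Spec (CommRingCat.of k)} {σ τ : Spec (CommRingCat.of k) ⟶ X} {ν : X ⟶ X'}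

/-- Smoothness and nodes away from the glued point. -/
theorem good_off {D : Scheme.{u}} {σ τ : D ⟶ X} (h : IsGl σ τ ν) [LocallyOfFiniteType q] [LocallyOfFiniteType q']
    (hq : ν ≫ q' = q) (x : X) (hx : ν x ∈ h.off) :
    (SmAt q x ↔ SmAt q' (ν x)) ∧ (@Curv2.IsNode k _ X ⟨q⟩ x ↔ @Curv2.IsNode k _ X' ⟨q'⟩ (ν x)) := by
  have h1 := h.isIso_off
  let _ : X.Over (Spec (CommRingCat.of k)) := ⟨q⟩
  have : LocallyOfFiniteType (X ↘ (Spec (CommRingCat.of k))) := ‹LocallyOfFiniteType q›
  let _ : X'.Over (Spec (CommRingCat.of k)) := ⟨q'⟩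
  have : LocallyOfFiniteType (X' ↘ (Spec (CommRingCat.of k))) := ‹LocallyOfFiniteType q'›
  let W := ν ⁻¹ᵁ h.off
  let w : W := ⟨x, hx⟩
  let u : W.toScheme ⟶ X' := (ν ∣_ h.off) ≫ h.off.ι
  have hu : u = W.ι ≫ ν := morphismRestrict_ι _ _
  have hu' : IsOpenImmersion u := inferInstance
  have hw2 : u w = ν x := by rw [hu]; rfl
  have hqq : u ≫ q' = W.ι ≫ q := by rw [hu, Category.assoc, hq]
  constructor
  · have h2 := smAt_iff W.ι q w
    have h3 := smAt_iff u q' w
    rw [hqq, hw2] at h3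
    exact h2.symm.trans h3
  · have h2 := K315.NodeEtale.isNode_iff_of_etale k X W.ι w
    have h3 := K315.NodeEtale.isNode_iff_of_etale k X' u w
    have h4 : u ≫ (X' ↘ (Spec (CommRingCat.of k))) = W.ι ≫ (X ↘ (Spec (CommRingCat.of k))) := hqq
    rw [h4, hw2] at h3
    exact h2.trans h3.symm

theorem germ_surjective {S : Scheme.{u}} [IsAffine S] (hS : IsField Γ(S, ⊤)) (s : S) :
    Function.Surjective (S.presheaf.germ ⊤ s trivial) := by
  let y : (⊤ : S.Opens) := ⟨s, trivial⟩
  let _ : Algebra Γ(S, ⊤) (S.presheaf.stalk s) := TopCat.Presheaf.algebra_section_stalk S.presheaf y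
  have hloc : IsLocalization.AtPrime (S.presheaf.stalk s) ((isAffineOpen_top S).primeIdealOf y).asIdeal :=
    (isAffineOpen_top S).isLocalization_stalk y
  intro x
  obtain ⟨⟨a, b⟩, hab⟩ := IsLocalization.surj ((isAffineOpen_top S).primeIdealOf y).asIdeal.primeCompl x
  have hb : (b : Γ(S, ⊤)) ≠ 0 := by
    intro h0
    exact b.2 (h0 ▸ Ideal.zero_mem _)
  obtain ⟨c, hc⟩ := hS.mul_inv_cancel hb
  refine ⟨a * c, ?_⟩
  change algebraMap Γ(S, ⊤) (S.presheaf.stalk s) (a * c) = x
  dsimp only at hab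
  rw [map_mul, ← hab, mul_assoc, ← map_mul, hc, map_one, mul_one]

theorem surjective_resMap_spec (d : Spec (CommRingCat.of k)) :
    Function.Surjective (@Curv2.resMap k _ (Spec (CommRingCat.of k)) ⟨𝟙 _⟩ d) := by
  intro y
  obtain ⟨z, rfl⟩ := (Spec (CommRingCat.of k)).residue_surjective d y
  obtain ⟨w, rfl⟩ := germ_surjective (isField_spec k) d z
  refine ⟨(Scheme.ΓSpecIso (CommRingCat.of k)).hom w, ?_⟩
  change ((Spec (CommRingCat.of k)).residue d).hom (((Spec (CommRingCat.of k)).presheaf.germ ⊤ d trivial).hom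
    ((𝟙 (Spec (CommRingCat.of k)) : _ ⟶ _).appTop.hom ((Scheme.ΓSpecIso (CommRingCat.of k)).inv.hom
      ((Scheme.ΓSpecIso (CommRingCat.of k)).hom w)))) = _
  have h1 : (Scheme.ΓSpecIso (CommRingCat.of k)).inv.hom ((Scheme.ΓSpecIso (CommRingCat.of k)).hom w) = w :=
    congr($((Scheme.ΓSpecIso (CommRingCat.of k)).hom_inv_id) w)
  rw [h1]
  rfl

theorem resFS_section {s : Spec (CommRingCat.of k) ⟶ X} (hs : s ≫ q = 𝟙 _) (d : Spec (CommRingCat.of k)) :
    ResFS q (s d) := by
  refine resFS_of_map s q d ?_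
  rw [hs]
  have h1 := surjective_resMap_spec (k := k) d
  let _ := @Curv2.resAlgebra k _ (Spec (CommRingCat.of k)) ⟨𝟙 _⟩ d
  have h2 : Function.Surjective (algebraMap k ((Spec (CommRingCat.of k)).residueField d)) := h1
  have h3 : Module.Finite k ((Spec (CommRingCat.of k)).residueField d) :=
    Module.Finite.of_surjective (Algebra.linearMap k _) h2
  refine ⟨h3, ?_⟩
  exact ⟨fun x => by
    obtain ⟨c, rfl⟩ := h2 x
    exact isSeparable_algebraMap c⟩

/-- The glued point is a node. -/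
theorem isNode_pt (h : IsGl σ τ ν) [LocallyOfFiniteType q] [LocallyOfFiniteType q'] (hq : ν ≫ q' = q)
    (hσ : σ ≫ q = 𝟙 _) (d : Spec (CommRingCat.of k)) (h1 : PR (X.presheaf.stalk (σ d))) (h2 : PR (X.presheaf.stalk (τ d))) :
    @Curv2.IsNode k _ X' ⟨q'⟩ (ν (σ d)) := by
  let _ : X'.Over (Spec (CommRingCat.of k)) := ⟨q'⟩
  have : LocallyOfFiniteType (X' ↘ (Spec (CommRingCat.of k))) := ‹LocallyOfFiniteType q'›
  have hLN : IsLocallyNoetherian X := LocallyOfFiniteType.isLocallyNoetherian q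
  have hcl := h.isClosedImmersion
  have hsub : Subsingleton (Spec (CommRingCat.of k)) := inferInstanceAs (Subsingleton (PrimeSpectrum k))
  have hred : IsReduced ((Spec (CommRingCat.of k) ⨿ Spec (CommRingCat.of k) : Scheme.{u})) :=
    isReduced_of_isOpenImmersion (coprodSpec k k)
  rw [isNode_iff_resFS k X' (ν (σ d))]
  refine ⟨?_, ?_⟩
  · have := resFS_section (X := X') (q := q') (s := σ ≫ ν) (by rw [Category.assoc, hq, hσ]) d
    rwa [Scheme.Hom.comp_apply] at this
  · have := nodeLike h.ferr (isField_spec k) (formallyUnramified_fold k) (finrank_fold k) (fun t => ?_) d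
    · rwa [Scheme.Hom.comp_apply] at this
    · obtain ⟨(y | y), rfl⟩ := (coprodMk _ _).surjective t
      · rw [coprodMk_inl, ← Scheme.Hom.comp_apply, coprod.inl_desc, Subsingleton.elim y d]
        exact h1
      · rw [coprodMk_inr, ← Scheme.Hom.comp_apply, coprod.inr_desc, Subsingleton.elim y d]
        exact h2

/-- The local ring at a closed smooth point of a curve. -/
theorem pr_of_smAt [LocallyOfFiniteType q] (hpure : ∀ Z ∈ irreducibleComponents (X : Type u), topologicalKrullDim Z = 1)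
    {x : X} (hx : IsClosed ({x} : Set X)) (hs : SmAt q x) : PR (X.presheaf.stalk x) := by
  let _ : X.Over (Spec (CommRingCat.of k)) := ⟨q⟩
  have : LocallyOfFiniteType (X ↘ (Spec (CommRingCat.of k))) := ‹LocallyOfFiniteType q›
  have h1 := Groth.Agent.CurvesB.NodeSch2.isRegularLocalRing_of_exists k x hs
  have hdim := Groth.Agent.CurvesB.NodeSch2.topologicalKrullDim_le_one_of_components hpure
  have h4 : ringKrullDim (X.presheaf.stalk x) ≤ 1 := (CurvesA.DimOne.ringKrullDim_stalk_le _ x).trans hdim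
  obtain ⟨h5, h6⟩ := Ega43.DedekindOpen.isDomain_isPrincipalIdealRing_of_regular_dim_le_one _ h4
  refine ⟨h5, h6.principal _, fun h7 => ?_⟩
  exact Groth.Agent.CurvesB.NodeSub.not_isField_stalk hpure x hx (IsLocalRing.isField_iff_maximalIdeal_eq.mpr h7)

end K312.GlNode
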