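import Groth.Agent.CurvSt.K312.Gl
import Groth.Agent.CurvesB.DimOneTop
import Groth.Prelude.Def_StCurv

/-!
# The topology of a glueing at two closed points
-/

set_option autoImplicit false
universe u
open CategoryTheory CategoryTheory.Limits AlgebraicGeometry TopologicalSpace

namespace K312.Gl

open Groth.Agent.CurvesB.DimOneTop

/-- a generic point -/
def Gen {T : Type*} [TopologicalSpace T] (z : T) : Prop := ∀ y, y ⤳ z → y = z

/-- all irreducible components have dimension one -/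
def Pure (T : Type*) [TopologicalSpace T] : Prop :=
  ∀ z : T, Gen z → ((∃ x, z ⤳ x ∧ x ≠ z) ∧ ∀ x, z ⤳ x → x ≠ z → ∀ y, x ⤳ y → y = x)

theorem pure_iff {T : Type*} [TopologicalSpace T] [QuasiSober T] [T0Space T] :
    (∀ Z ∈ irreducibleComponents T, topologicalKrullDim Z = 1) ↔ Pure T := forall_irreducibleComponents_iff

theorem gen_iff {T : Type*} [TopologicalSpace T] [QuasiSober T] [T0Space T] {z : T} :
    Gen z ↔ closure {z} ∈ irreducibleComponents T := (closure_mem_irreducibleComponents_iff z).symm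

theorem exists_gen {T : Type*} [TopologicalSpace T] [QuasiSober T] [T0Space T] {E : Set T}
    (hE : E ∈ irreducibleComponents T) : ∃ z, Gen z ∧ closure {z} = E := by
  obtain ⟨z, hz⟩ := QuasiSober.sober hE.1 (isClosed_of_mem_irreducibleComponents E hE)
  refine ⟨z, ?_, hz.def⟩
  rw [gen_iff, hz.def]
  exact hE

variable {D C C' : Scheme.{u}} {σ τ : D ⟶ C} {ν : C ⟶ C'}

namespace IsGl

variable (h : IsGl σ τ ν)
include h

theorem isClosedMap : IsClosedMap ν := by
  have := h.isFinite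
  exact ν.isClosedMap

theorem specializes {x y : C} (hy : ν y ∈ h.off) (hxy : ν x ⤳ ν y) : x ⤳ y := by
  have h1 := h.isIso_off
  have hx : ν x ∈ h.off := hxy.mem_open h.off.isOpen hy
  have key : ∀ w w' : (ν ⁻¹ᵁ h.off).toScheme, ν ((ν ⁻¹ᵁ h.off).ι w) ⤳ ν ((ν ⁻¹ᵁ h.off).ι w') →
      (ν ⁻¹ᵁ h.off).ι w ⤳ (ν ⁻¹ᵁ h.off).ι w' := by
    intro w w' hw
    rw [(ν ⁻¹ᵁ h.off).ι.isOpenEmbedding.isInducing.specializes_iff,
      ← (ν ∣_ h.off).isOpenEmbedding.isInducing.specializes_iff,
      ← h.off.ι.isOpenEmbedding.isInducing.specializes_iff, ← Scheme.Hom.comp_apply, ← Scheme.Hom.comp_apply,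
      morphismRestrict_ι, Scheme.Hom.comp_apply, Scheme.Hom.comp_apply]
    exact hw
  exact key ⟨x, hx⟩ ⟨y, hy⟩ hxy

theorem exists_specializes {x : C} {y' : C'} (hy : ν x ⤳ y') : ∃ y, x ⤳ y ∧ ν y = y' := by
  have h1 : y' ∈ ν '' closure {x} := by
    rw [← h.isClosedMap.closure_image_eq_of_continuous ν.continuous, Set.image_singleton]
    exact hy.mem_closure
  obtain ⟨y, hy1, hy2⟩ := h1
  exact ⟨y, specializes_iff_mem_closure.mpr hy1, hy2⟩

theorem gen_of_off {z : C} (hz : Gen z) (hz' : ν z ∈ h.off) : Gen (ν z) := by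
  intro y' hy'
  obtain ⟨y, rfl⟩ := h.surj y'
  rw [hz y (h.specializes hz' hy')]

theorem exists_gen_preimage {z' : C'} (hz' : Gen z') : ∃ z, Gen z ∧ ν z = z' := by
  obtain ⟨x, rfl⟩ := h.surj z'
  obtain ⟨w, hw, hwx⟩ := exists_generic_specializes x
  exact ⟨w, hw, hz' _ (hwx.map ν.continuous)⟩

/-- The generic points are away from the glued points. -/
def Off : Prop := ∀ z : C, Gen z → ν z ∈ h.off

theorem off_iff : h.Off ↔ ∀ d, ¬ Gen (σ d) ∧ ¬ Gen (τ d) := by
  constructor
  · intro h1 d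
    exact ⟨fun h2 => ((h.mem_off_iff.mp (h1 _ h2)) d).1 rfl, fun h2 => ((h.mem_off_iff.mp (h1 _ h2)) d).2 rfl⟩
  · intro h1 z hz
    rw [h.mem_off_iff]
    intro d
    refine ⟨?_, ?_⟩
    · rintro rfl; exact (h1 d).1 hz
    · rintro rfl; exact (h1 d).2 hz

variable [Subsingleton D]

theorem isClosed_left (d : D) : IsClosed ({σ d} : Set C) := by
  have h1 := h.closed_left
  have h2 : ({σ d} : Set C) = Set.range σ := by
    ext x
    constructor
    · rintro rfl; exact ⟨d, rfl⟩
    · rintro ⟨d', rfl⟩; rw [Subsingleton.elim d' d]; rfl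
  rw [h2]
  exact σ.isClosedEmbedding.isClosed_range

theorem isClosed_right (d : D) : IsClosed ({τ d} : Set C) := by
  have h1 := h.closed_right
  have h2 : ({τ d} : Set C) = Set.range τ := by
    ext x
    constructor
    · rintro rfl; exact ⟨d, rfl⟩
    · rintro ⟨d', rfl⟩; rw [Subsingleton.elim d' d]; rfl
  rw [h2]
  exact τ.isClosedEmbedding.isClosed_range

theorem isClosed_pt (d : D) : IsClosed ({ν (σ d)} : Set C') := by
  have h1 := h.isClosedMap _ (h.isClosed_left d)
  rwa [Set.image_singleton] at h1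

theorem mem_off' {y : C'} (d : D) : y ∈ h.off ↔ y ≠ ν (σ d) := by
  rw [h.mem_off]
  constructor
  · intro h1 h2; exact h1 d h2.symm
  · intro h1 d' h2
    rw [Subsingleton.elim d' d] at h2
    exact h1 h2.symm

theorem off_of_pure (hC : Pure C) : h.Off := by
  rw [h.off_iff]
  intro d
  refine ⟨fun h1 => ?_, fun h1 => ?_⟩
  · obtain ⟨⟨x, hx, hne⟩, -⟩ := hC _ h1
    exact hne (hx.mem_closed (h.isClosed_left d) rfl)
  · obtain ⟨⟨x, hx, hne⟩, -⟩ := hC _ h1
    exact hne (hx.mem_closed (h.isClosed_right d) rfl)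

theorem pure (hC : Pure C) : Pure C' := by
  intro z' hz'
  obtain ⟨z, hz, rfl⟩ := h.exists_gen_preimage hz'
  have hoff := h.off_of_pure hC z hz
  obtain ⟨⟨x, hx, hne⟩, h1⟩ := hC z hz
  refine ⟨⟨ν x, hx.map ν.continuous, fun h2 => hne (h.injective_off hoff h2)⟩, ?_⟩
  intro x' hx' hne' y' hy'
  obtain ⟨x, hx, rfl⟩ := h.exists_specializes hx'
  obtain ⟨y, hy, rfl⟩ := h.exists_specializes hy'
  rw [h1 x hx (fun h2 => hne' (by rw [h2])) y hy]

theorem eq_of_specializes {x y : C} (hxy : x ⤳ y) (he : ν x = ν y) : y = x := by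
  rcases h.apply_eq_iff.mp he.symm with h1 | ⟨d, rfl, rfl⟩ | ⟨d, rfl, rfl⟩
  · exact h1
  · exact (hxy.mem_closed (h.isClosed_left d) rfl)
  · exact (hxy.mem_closed (h.isClosed_right d) rfl)

theorem pure_of (hC' : Pure C') (hoff : h.Off) : Pure C := by
  intro z hz
  have hz' := hoff z hz
  obtain ⟨⟨x', hx', hne⟩, h1⟩ := hC' (ν z) (h.gen_of_off hz hz')
  obtain ⟨x, hx, rfl⟩ := h.exists_specializes hx'
  refine ⟨⟨x, hx, fun h2 => hne (by rw [h2])⟩, ?_⟩
  intro x hx hne' y hy
  have h2 := h1 (ν x) (hx.map ν.continuous) (fun h3 => hne' (h.injective_off hz' h3)) (ν y) (hy.map ν.continuous)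
  exact h.eq_of_specializes hy h2.symm

end IsGl

section Comp

variable (h : IsGl σ τ ν) (hoff : h.Off)
include hoff

/-- Irreducible components go to irreducible components. -/
theorem IsGl.image_mem {E : Set C} (hE : E ∈ irreducibleComponents (C : Type u)) :
    ν '' E ∈ irreducibleComponents (C' : Type u) := by
  obtain ⟨z, hz, rfl⟩ := exists_gen hE
  have h1 := h.gen_of_off hz (hoff z hz)
  rw [← h.isClosedMap.closure_image_eq_of_continuous ν.continuous, Set.image_singleton]
  exact gen_iff.mp h1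

omit hoff in
theorem IsGl.exists_preimage (h : IsGl σ τ ν) {E' : Set C'} (hE' : E' ∈ irreducibleComponents (C' : Type u)) :
    ∃ E ∈ irreducibleComponents (C : Type u), ν '' E = E' := by
  obtain ⟨z', hz', rfl⟩ := exists_gen hE'
  obtain ⟨z, hz, rfl⟩ := h.exists_gen_preimage hz'
  refine ⟨closure {z}, gen_iff.mp hz, ?_⟩
  rw [← h.isClosedMap.closure_image_eq_of_continuous ν.continuous, Set.image_singleton]

theorem IsGl.image_injOn : Set.InjOn (fun E => ν '' E) (irreducibleComponents (C : Type u)) := by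
  intro E hE F hF hEF
  obtain ⟨z, hz, rfl⟩ := exists_gen hE
  obtain ⟨w, hw, rfl⟩ := exists_gen hF
  dsimp only at hEF
  rw [← h.isClosedMap.closure_image_eq_of_continuous ν.continuous,
    ← h.isClosedMap.closure_image_eq_of_continuous ν.continuous, Set.image_singleton, Set.image_singleton] at hEF
  have h1 : ν z = ν w := by
    have h2 : ν z ∈ closure {ν w} := hEF ▸ subset_closure rfl
    have h3 : ν w ∈ closure {ν z} := hEF.symm ▸ subset_closure rfl
    exact ((specializes_iff_mem_closure.mpr h3).antisymm (specializes_iff_mem_closure.mpr h2)).eq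
  rw [h.injective_off (hoff w hw) h1]

/-- The intersection points of the components away from the glued points. -/
theorem IsGl.image_meetPts_subset {E : Set C} (hE : E ∈ irreducibleComponents (C : Type u)) :
    ν '' CurvSt.meetPts C E ⊆ CurvSt.meetPts C' (ν '' E) := by
  rintro _ ⟨x, ⟨hx, F, hF, hne, hxF⟩, rfl⟩
  exact ⟨⟨x, hx, rfl⟩, ν '' F, h.image_mem hoff hF, fun h1 => hne (h.image_injOn hoff hF hE h1), ⟨x, hxF, rfl⟩⟩

end Comp

/-- Connectedness of a glueing. -/
theorem IsGl.connectedSpace (h : IsGl σ τ ν) [ConnectedSpace C] : ConnectedSpace C' :=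
  h.surj.connectedSpace ν.continuous

end K312.Gl
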