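import Groth.Agent.CurvSt.K312.Gl
import Groth.Agent.Ega2.Normal

/-!
# Lifting morphisms from normal schemes to the unglued scheme
-/

set_option autoImplicit false
universe u
open CategoryTheory CategoryTheory.Limits AlgebraicGeometry TopologicalSpace

namespace K312.Gl

open K838.Ferr

/-- An integral morphism to an integral normal scheme with a section at the generic point has a section. -/
theorem exists_section {P W : Scheme.{u}} [IsIntegral P] (hP : Pi1.IsNormalScheme P) (g : W ⟶ P) [IsIntegralHom g]
    (x : Spec P.functionField ⟶ W) (hx : x ≫ g = P.fromSpecStalk (genericPoint P)) :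
    ∃ s : P ⟶ W, s ≫ g = 𝟙 P := by
  have hN : NoetherianSpace (Spec P.functionField) := by
    have : Subsingleton (Spec P.functionField) := Groth.Agent.Ega2.Normal.subsingleton_spec_functionField P
    infer_instance
  have hq : QuasiCompact x := inferInstance
  have h1 : IsIntegral x.image := Groth.Agent.Ega2.Normal.isIntegral_image x
  have h2 : IsIso (x.imageι ≫ g) := by
    refine Groth.Agent.Ega2.Normal.isIso_of_functionField_section hP _ x.toImage ?_
    rw [← Category.assoc, Scheme.Hom.toImage_imageι, hx]
  exact ⟨inv (x.imageι ≫ g) ≫ x.imageι, by rw [Category.assoc, IsIso.inv_hom_id]⟩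

variable {D C C' : Scheme.{u}} {σ τ : D ⟶ C} {ν : C ⟶ C'}

/-- Morphisms into the complement of the glued points lift. -/
theorem IsGl.exists_lift_off (h : IsGl σ τ ν) {Z : Scheme.{u}} (z : Z ⟶ C') (hz : ∀ t, z t ∈ h.off) :
    ∃ y : Z ⟶ C, y ≫ ν = z := by
  have h1 := h.isIso_off
  have h2 : Set.range z ⊆ Set.range h.off.ι := by
    rintro _ ⟨t, rfl⟩
    rw [Scheme.Opens.range_ι]
    exact hz t
  refine ⟨IsOpenImmersion.lift h.off.ι z h2 ≫ inv (ν ∣_ h.off) ≫ (ν ⁻¹ᵁ h.off).ι, ?_⟩
  rw [Category.assoc, Category.assoc, ← morphismRestrict_ι, IsIso.inv_hom_id_assoc, IsOpenImmersion.lift_fac]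

/-- Morphisms from integral normal schemes which do not map into the glued points lift. -/
theorem IsGl.exists_lift (h : IsGl σ τ ν) {P : Scheme.{u}} [IsIntegral P] (hP : Pi1.IsNormalScheme P) (e : P ⟶ C')
    (hη : e (genericPoint P) ∈ h.off) : ∃ e' : P ⟶ C, e' ≫ ν = e := by
  have hfin := h.isFinite
  have hsub : Subsingleton (Spec P.functionField) := Groth.Agent.Ega2.Normal.subsingleton_spec_functionField P
  obtain ⟨y, hy⟩ := h.exists_lift_off (P.fromSpecStalk (genericPoint P) ≫ e) (fun t => by
    have ht : t = IsLocalRing.closedPoint (P.presheaf.stalk (genericPoint P)) := Subsingleton.elim (α := Spec P.functionField) _ _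
    have h3 : P.fromSpecStalk (genericPoint P) t = genericPoint P := by
      rw [ht]
      exact Scheme.fromSpecStalk_closedPoint
    rw [Scheme.Hom.comp_apply, h3]
    exact hη)
  obtain ⟨s, hs⟩ := exists_section hP (pullback.snd ν e)
    (pullback.lift y (P.fromSpecStalk (genericPoint P)) hy) (pullback.lift_snd _ _ _)
  refine ⟨s ≫ pullback.fst ν e, ?_⟩
  rw [Category.assoc, pullback.condition, reassoc_of% hs]

end K312.Gl
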