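import Groth.Agent.CurvSt.K312.NodeFin
import Groth.Agent.CurvSt.K312.Boundary
import Groth.Agent.CurvSt.K896.NodeFinal
import Groth.Agent.CurvSt.K316.FieldFam
import Groth.Agent.CurvSt.K253.Num

/-!
# The gluing inputs of `K896.Final.Inputs`, unconditional
-/

set_option autoImplicit false
universe u
open CategoryTheory CategoryTheory.Limits AlgebraicGeometry TopologicalSpace CurvSt

namespace K312.NodeAll

open K312.NodeFin

theorem num (k : Type u) [Field k] [IsAlgClosed k] : K312.NodeFin.Num.{u} k := by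
  intro Z r z h hc
  have := K253.Num.genus_pos r h (Set.finite_singleton z) (by rw [Set.ncard_singleton]; omega)
  omega

theorem famStmt (k : Type u) [Field k] [IsAlgClosed k] : FamStmt.{u} k :=
  fun f n g τ hτ h => K316.FieldFam.isStableFam f n g τ hτ h

/-- **A singular stable curve is a glueing of stable curves.** -/
theorem nodeStmt (k : Type u) [Field k] [IsAlgClosed k] : K896.BdryConn.NodeStmt.{u} k :=
  K896.NodeFinal.nodeStmt k fun q g σ hσ hX hg a b ν h ha hb hsa hsb hgen =>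
    of_isGl (num k) (famStmt k) q g σ hσ hX hg a b ν h hgen ha hb hsa hsb

theorem g1Fam : K896.Bdry.G1Fam.{u} := fun f h σ hσ hst hp => Boundary.g1Fam f h σ hσ hst hp

theorem g2Fam : K896.Bdry.G2Fam.{u} := fun f₁ f₂ h₁ h₂ σ₁ hσ₁ σ₂ hσ₂ hst₁ hst₂ _ _ =>
  Boundary.g2Fam f₁ f₂ h₁ h₂ σ₁ hσ₁ σ₂ hσ₂ hst₁ hst₂

theorem g1Pt (k : Type u) [Field k] [IsAlgClosed k] (HP : K896.MbarSmooth.ProjLoc.{u}) : K896.BdryConn.G1Pt.{u} k :=
  fun f h σ hσ hst => Boundary.g1Pt f h σ hσ hst (K896.BdryConn.isHProjective_of_projLoc HP f σ hσ hst)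

theorem g2Pt (k : Type u) [Field k] : K896.BdryConn.G2Pt.{u} k := fun f₁ f₂ h₁ h₂ σ₁ hσ₁ σ₂ hσ₂ hst₁ hst₂ =>
  Boundary.g2Pt f₁ f₂ h₁ h₂ σ₁ hσ₁ σ₂ hσ₂ hst₁ hst₂

end K312.NodeAll
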