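import Groth.Agent.CurvSt.K312.Split
import Groth.Agent.CurvesC.GenusOne512
import Groth.Agent.Curves.K318.P1Num

/-!
# A stable curve with a partial normalization at a node is a glueing of stable curves
-/

set_option autoImplicit false
universe u
open CategoryTheory CategoryTheory.Limits AlgebraicGeometry TopologicalSpace

namespace K312.NodeFin

open K312.Gl K312.GlNode K312.Marks K312.Chi K312.Split K896.Trans K896.Glue Groth.Agent CurvSt

variable {k : Type u} [Field k] [IsAlgClosed k]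

/-- The closed point. -/
noncomputable def pt (k : Type u) [Field k] : Spec (CommRingCat.of k) := IsLocalRing.closedPoint k

variable (k) in
theorem chi_P1 : chi k (CohB1.ProjSpace.toSpec 1 k) = 1 := by
  have h1 : IsIntegral (CohB1.ProjSpace 1 k) := isIntegral_P1
  have h2 : IsProper (CohB1.ProjSpace.toSpec 1 k) := inferInstance
  have h3 : topologicalKrullDim (CohB1.ProjSpace 1 k) ≤ 1 := (Models.H58.P1Model.topologicalKrullDim_P1 k).le
  rw [chi_conn (CohB1.ProjSpace.toSpec 1 k) h3]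
  have h4 : @Curv2.genus k _ (CohB1.ProjSpace 1 k) ⟨CohB1.ProjSpace.toSpec 1 k⟩ = 0 := K318.P1Num.genus_eq k
  rw [h4]
  norm_num

omit [IsAlgClosed k] in
theorem isReduced_of_nodal {X : Scheme.{u}} (q : X ⟶ Spec (CommRingCat.of k)) [IsProper q]
    (h : @Curv2.AtWorstNodal k _ X ⟨q⟩) : IsReduced X := by
  let _ : X.Over (Spec (CommRingCat.of k)) := ⟨q⟩
  have hq : IsProper (X ↘ (Spec (CommRingCat.of k))) := ‹IsProper q›
  exact CurvesC.GenusOne512.isReduced_of_atWorstNodal k X h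

variable {X X' : Scheme.{u}} {q : X ⟶ Spec (CommRingCat.of k)}
  {q' : X' ⟶ Spec (CommRingCat.of k)} {σ τ : Spec (CommRingCat.of k) ⟶ X} {ν : X ⟶ X'}

/-- The marked curve above a marked curve. -/
theorem ws_unglue {M' : Set X'} (hX' : WS k q' M') [ConnectedSpace X'] (h : IsGl σ τ ν) (hoff : h.Off)
    (hq : ν ≫ q' = q) (hσ : σ ≫ q = 𝟙 _) (d : Spec (CommRingCat.of k)) (hM' : ν (σ d) ∉ M')
    (hs1 : SmAt q (σ d)) (hs2 : SmAt q (τ d))
    (hgen : ¬ (@Curv2.genus k _ X' ⟨q'⟩ = 1 ∧ M' = ∅)) : WS k q (ν ⁻¹' M' ∪ {σ d, τ d}) := by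
  have hsub : Subsingleton (Spec (CommRingCat.of k)) := inferInstanceAs (Subsingleton (PrimeSpectrum k))
  have hP' := hX'.proper
  have hfin := h.isFinite
  have hP : IsProper q := by rw [← hq]; infer_instance
  have hpure : Pure X := h.pure_of hX'.pure hoff
  have hnod := nodal_of_isGl h hq hX'.nodal d hs1 hs2
  have hr1 := isReduced_of_nodal q hnod
  have hr2 := isReduced_of_nodal q' hX'.nodal
  have hN : IsNoetherian X := isNoetherian_of_proper q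
  have hd1 := (pr_of_smAt (pure_iff.mpr hpure) (h.isClosed_left d) hs1).1
  have hd2 := (pr_of_smAt (pure_iff.mpr hpure) (h.isClosed_right d) hs2).1
  refine hX'.unglue h hoff hq d hM' hs1 hs2 fun E hE h1 h2 => ?_
  by_contra hc
  obtain ⟨huniv, hM⟩ := eq_univ_of_both h d hE.1 h1 h2 hc
  apply hgen
  refine ⟨?_, Set.eq_empty_iff_forall_notMem.mpr fun m hm => hM' (hM m hm ▸ hm)⟩
  obtain ⟨-, e, he, heq, hr⟩ := hE
  have hsurj : Surjective e := ⟨fun x => by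
    have : x ∈ Set.range e.base := by rw [hr, huniv]; trivial
    exact this⟩
  have hiso : IsIso e := isIso_of_isClosedImmersion_of_surjective e
  have e1 : chi k q = 1 := by
    have := chi_iso (asIso e) q
    rw [asIso_hom, heq, chi_P1] at this
    exact this.symm
  have hd1 := topologicalKrullDim_le_of_pure hpure
  have hd2 := topologicalKrullDim_le_of_pure hX'.pure
  have e2 := chi_gl h q q' hd1 hd2 hoff hq hσ
  have e3 := chi_conn q' hd2
  rw [e1, e3] at e2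
  omega

/-- The genus of a curve with one marked point is positive. -/
def Num (k : Type u) [Field k] : Prop :=
  ∀ {Z : Scheme.{u}} (r : Z ⟶ Spec (CommRingCat.of k)) (z : Z), WS k r {z} → ConnectedSpace Z →
    1 ≤ @Curv2.genus k _ Z ⟨r⟩

/-- Stable pointed curves over `k` are stable families. -/
def FamStmt (k : Type u) [Field k] [IsAlgClosed k] : Prop :=
  ∀ {C : Scheme.{u}} (f : C ⟶ Spec (CommRingCat.of k)) (n g : ℕ) (τ : Fin n → (Spec (CommRingCat.of k) ⟶ C))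
    (hτ : ∀ i, τ i ≫ f = 𝟙 _), IsStablePtd k C f g (fun i => τ i (pt k)) → IsStableFam f τ hτ g

/-- The piece of a split curve. -/
theorem isStablePtd_piece (hnum : Num.{u} k) {M : Set X} (hws : WS k q M) (U : X.Opens) (hU : IsClosed (U : Set X))
    [ConnectedSpace U.toScheme] (s : Spec (CommRingCat.of k) ⟶ U.toScheme)
    (hM : U.ι ⁻¹' M = {s (pt k)}) :
    IsStablePtd k U.toScheme (U.ι ≫ q) (@Curv2.genus k _ U.toScheme ⟨U.ι ≫ q⟩) (fun _ : Fin 1 => s (pt k)) ∧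
      1 ≤ @Curv2.genus k _ U.toScheme ⟨U.ι ≫ q⟩ := by
  have hcl := isClosedImmersion_ι U hU
  have h1 := hws.clopen U.ι
  rw [hM] at h1
  have h2 := hnum _ _ h1 inferInstance
  refine ⟨isStablePtd_iff.mpr ⟨?_, Function.injective_of_subsingleton _, inferInstance, rfl, by omega⟩, h2⟩
  have h3 : Set.range (fun _ : Fin 1 => s (pt k)) = {s (pt k)} := Set.range_const
  rw [h3]
  exact h1

/-- **A glueing which is a stable curve is a glueing of stable curves.** -/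
theorem main (hnum : Num.{u} k) {g : ℕ} {x : Fin 0 → X'} (hX' : IsStablePtd k X' q' g x) (hg : 2 ≤ g)
    (h : IsGl σ τ ν) (hoff : h.Off) (hq : ν ≫ q' = q) (hσ : σ ≫ q = 𝟙 _) (hτ : τ ≫ q = 𝟙 _)
    (hs1 : SmAt q (σ (pt k))) (hs2 : SmAt q (τ (pt k))) :
    (IsStablePtd k X q (g - 1) ![σ (pt k), τ (pt k)]) ∨
    (∃ (g₁ g₂ : ℕ) (C₁ C₂ : Scheme.{u}) (f₁ : C₁ ⟶ Spec (CommRingCat.of k)) (f₂ : C₂ ⟶ Spec (CommRingCat.of k))
      (τ₁ : Spec (CommRingCat.of k) ⟶ C₁) (τ₂ : Spec (CommRingCat.of k) ⟶ C₂) (ν₁ : C₁ ⟶ X') (ν₂ : C₂ ⟶ X'),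
      τ₁ ≫ f₁ = 𝟙 _ ∧ τ₂ ≫ f₂ = 𝟙 _ ∧
      1 ≤ g₁ ∧ 1 ≤ g₂ ∧ g = g₁ + g₂ ∧ IsStablePtd k C₁ f₁ g₁ (fun _ : Fin 1 => τ₁ (pt k)) ∧
      IsStablePtd k C₂ f₂ g₂ (fun _ : Fin 1 => τ₂ (pt k)) ∧
      ν₁ ≫ q' = f₁ ∧ ν₂ ≫ q' = f₂ ∧ IsGl (τ₁ ≫ coprod.inl) (τ₂ ≫ coprod.inr) (coprod.desc ν₁ ν₂)) := by
  have hsub : Subsingleton (Spec (CommRingCat.of k)) := inferInstanceAs (Subsingleton (PrimeSpectrum k))
  obtain ⟨hws', -, hconn, hgen, -⟩ := isStablePtd_iff.mp hX'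
  have hx : Set.range x = ∅ := Set.range_eq_empty x
  rw [hx] at hws'
  have hws := ws_unglue hws' h hoff hq hσ (pt k) (Set.notMem_empty _) hs1 hs2 (by
    rintro ⟨h1, -⟩
    omega)
  rw [Set.preimage_empty, Set.empty_union] at hws
  have hP := hws.proper
  have hP' := hws'.proper
  have hr1 := isReduced_of_nodal q hws.nodal
  have hr2 := isReduced_of_nodal q' hws'.nodal
  have hd1 := topologicalKrullDim_le_of_pure hws.pure
  have hd2 := topologicalKrullDim_le_of_pure hws'.pure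
  have e2 := chi_gl h q q' hd1 hd2 hoff hq hσ
  have e3 := chi_conn q' hd2
  rw [e3, hgen] at e2
  by_cases hc : ConnectedSpace X
  · left
    have e4 := chi_conn q hd1
    rw [e4] at e2
    have hgX : @Curv2.genus k _ X ⟨q⟩ = g - 1 := by omega
    refine isStablePtd_iff.mpr ⟨?_, ?_, hc, hgX, by omega⟩
    · have h3 : Set.range ![σ (pt k), τ (pt k)] = {σ (pt k), τ (pt k)} := by
        simp only [Matrix.range_cons, Matrix.range_empty, Set.union_empty]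
        rfl
      rw [h3]
      exact hws
    · intro i j hij
      have hne := h.ne (pt k) (pt k)
      fin_cases i <;> fin_cases j
      · rfl
      · exact absurd hij hne
      · exact absurd hij.symm hne
      · rfl
  · right
    obtain ⟨U, V, hU, hV, hUV, hd, hσU, hτU, hτV, hσV⟩ := exists_split h (pt k) hc
    have hcU := connectedSpace_piece h (pt k) U hU hσU hτU
    have hcV := connectedSpace_piece h.symm (pt k) V hV hτV hσV
    have hiso := isIso_desc U V hUV hd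
    let τ₁ : Spec (CommRingCat.of k) ⟶ U.toScheme := IsOpenImmersion.lift U.ι σ (by
      rintro _ ⟨d, rfl⟩
      rw [Scheme.Opens.range_ι, Subsingleton.elim d (pt k)]
      exact hσU)
    let τ₂ : Spec (CommRingCat.of k) ⟶ V.toScheme := IsOpenImmersion.lift V.ι τ (by
      rintro _ ⟨d, rfl⟩
      rw [Scheme.Opens.range_ι, Subsingleton.elim d (pt k)]
      exact hτV)
    have hτ₁ : τ₁ ≫ U.ι = σ := IsOpenImmersion.lift_fac _ _ _
    have hτ₂ : τ₂ ≫ V.ι = τ := IsOpenImmersion.lift_fac _ _ _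
    have hp1 : U.ι (τ₁ (pt k)) = σ (pt k) := by rw [← Scheme.Hom.comp_apply, hτ₁]
    have hp2 : V.ι (τ₂ (pt k)) = τ (pt k) := by rw [← Scheme.Hom.comp_apply, hτ₂]
    have hM1 : U.ι ⁻¹' {σ (pt k), τ (pt k)} = {τ₁ (pt k)} := by
      ext y
      constructor
      · rintro (h1 | h1)
        · exact U.ι.isOpenEmbedding.injective (h1.trans hp1.symm)
        · exact absurd (h1 ▸ y.2 : τ (pt k) ∈ U) hτU
      · rintro rfl
        exact Or.inl hp1
    have hM2 : V.ι ⁻¹' {σ (pt k), τ (pt k)} = {τ₂ (pt k)} := by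
      ext y
      constructor
      · rintro (h1 | h1)
        · exact absurd (h1 ▸ y.2 : σ (pt k) ∈ V) hσV
        · exact V.ι.isOpenEmbedding.injective (h1.trans hp2.symm)
      · rintro rfl
        exact Or.inr hp2
    obtain ⟨st1, gt1⟩ := isStablePtd_piece hnum hws U hU τ₁ hM1
    obtain ⟨st2, gt2⟩ := isStablePtd_piece hnum hws V hV τ₂ hM2
    have hclU := isClosedImmersion_ι U hU
    have hclV := isClosedImmersion_ι V hV
    have hrU : IsReduced U.toScheme := inferInstance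
    have hrV : IsReduced V.toScheme := inferInstance
    have e4 := chi_split q U V hUV hd
    rw [chi_conn (U.ι ≫ q) (topologicalKrullDim_le_of_pure (hws.clopen U.ι).pure),
      chi_conn (V.ι ≫ q) (topologicalKrullDim_le_of_pure (hws.clopen V.ι).pure)] at e4
    rw [e4] at e2
    refine ⟨_, _, U.toScheme, V.toScheme, U.ι ≫ q, V.ι ≫ q, τ₁, τ₂, U.ι ≫ ν, V.ι ≫ ν, ?_, ?_, gt1, gt2, ?_, st1, st2,
      ?_, ?_, ?_⟩
    · rw [← Category.assoc, hτ₁, hσ]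
    · rw [← Category.assoc, hτ₂, hτ]
    · omega
    · rw [Category.assoc, hq]
    · rw [Category.assoc, hq]
    · have h1 := isGl_of_iso h (coprod.desc U.ι V.ι) (σ₀ := τ₁ ≫ coprod.inl) (τ₀ := τ₂ ≫ coprod.inr)
        (by rw [Category.assoc, coprod.inl_desc, hτ₁]) (by rw [Category.assoc, coprod.inr_desc, hτ₂])
      have h2 : coprod.desc (U.ι ≫ ν) (V.ι ≫ ν) = coprod.desc U.ι V.ι ≫ ν := by
        apply coprod.hom_ext
        · rw [coprod.inl_desc, coprod.inl_desc_assoc]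
        · rw [coprod.inr_desc, coprod.inr_desc_assoc]
      rw [h2]
      exact h1

/-- **The second half of `K896.BdryConn.NodeStmt`.** -/
theorem of_isGl (hnum : Num.{u} k) (hfam : FamStmt.{u} k) {X Y : Scheme.{u}} (q : X ⟶ Spec (CommRingCat.of k)) (g : ℕ)
    (σ : Fin 0 → (Spec (CommRingCat.of k) ⟶ X)) (hσ : ∀ i, σ i ≫ q = 𝟙 _) (hX : IsStableFam q σ hσ g)
    (hg : 2 ≤ g) (a b : Spec (CommRingCat.of k) ⟶ Y) (ν : Y ⟶ X) (h : IsGl a b ν)
    (hoff : ∀ d, ¬ Gen (a d) ∧ ¬ Gen (b d)) (ha : a ≫ ν ≫ q = 𝟙 _) (hb : b ≫ ν ≫ q = 𝟙 _)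
    (hsa : ∀ d, SmAt (ν ≫ q) (a d)) (hsb : ∀ d, SmAt (ν ≫ q) (b d)) :
    (∃ (C : Scheme.{u}) (f : C ⟶ Spec (CommRingCat.of k)) (τ : Fin 2 → (Spec (CommRingCat.of k) ⟶ C))
      (hτ : ∀ i, τ i ≫ f = 𝟙 _) (ν : C ⟶ X), IsStableFam f τ hτ (g - 1) ∧ ν ≫ q = f ∧
      UnivGlue f q (τ 0) (τ 1) ν) ∨
    (∃ (g₁ g₂ : ℕ) (C₁ C₂ : Scheme.{u}) (f₁ : C₁ ⟶ Spec (CommRingCat.of k)) (f₂ : C₂ ⟶ Spec (CommRingCat.of k))
      (τ₁ : Fin 1 → (Spec (CommRingCat.of k) ⟶ C₁)) (hτ₁ : ∀ i, τ₁ i ≫ f₁ = 𝟙 _)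
      (τ₂ : Fin 1 → (Spec (CommRingCat.of k) ⟶ C₂)) (hτ₂ : ∀ i, τ₂ i ≫ f₂ = 𝟙 _) (ν₁ : C₁ ⟶ X) (ν₂ : C₂ ⟶ X),
      1 ≤ g₁ ∧ 1 ≤ g₂ ∧ g = g₁ + g₂ ∧ IsStableFam f₁ τ₁ hτ₁ g₁ ∧ IsStableFam f₂ τ₂ hτ₂ g₂ ∧
      ν₁ ≫ q = f₁ ∧ ν₂ ≫ q = f₂ ∧ UnivPush f₁ f₂ q (τ₁ 0) (τ₂ 0) ν₁ ν₂) := by
  have hX' := hX.2.2.2 k (𝟙 _) X (𝟙 X) q (IsPullback.of_horiz_isIso ⟨by simp⟩)
  have hoff' : h.Off := h.off_iff.mpr hoff
  rcases main hnum hX' hg h hoff' rfl ha hb (hsa _) (hsb _) with h1 | ⟨g₁, g₂, C₁, C₂, f₁, f₂, τ₁, τ₂, ν₁, ν₂, e1, e2,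
    h1, h2, h3, h4, h5, h6, h7, h8⟩
  · left
    have hτ : ∀ i, (![a, b] : Fin 2 → (Spec (CommRingCat.of k) ⟶ Y)) i ≫ ν ≫ q = 𝟙 _ := by
      intro i
      fin_cases i
      · exact ha
      · exact hb
    refine ⟨Y, ν ≫ q, ![a, b], hτ, ν, hfam _ _ _ _ _ ?_, rfl, ?_⟩
    · convert h1 using 1
      funext i
      fin_cases i <;> rfl
    · exact h.univGlue ha rfl
  · right
    refine ⟨g₁, g₂, C₁, C₂, f₁, f₂, fun _ => τ₁, fun _ => e1, fun _ => τ₂, fun _ => e2, ν₁, ν₂, h1, h2, h3,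
      hfam _ _ _ _ _ h4, hfam _ _ _ _ _ h5, h6, h7, h8.univPush e1 h6 h7⟩

end K312.NodeFin
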