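import Groth.Agent.CurvSt.K312.Unglue
import Groth.Agent.CurvSt.K312.Clopen
import Groth.Agent.CurvSt.K312.Univ
import Groth.Agent.CurvSt.K312.Chi

/-!
# Splitting the unglued curve into two clopen pieces
-/

set_option autoImplicit false
universe u
open CategoryTheory CategoryTheory.Limits AlgebraicGeometry TopologicalSpace

namespace K312.Split

open K312.Gl K312.GlNode K312.Marks K312.Chi K896.Trans Groth.Agent

theorem isClosedImmersion_ι {X : Scheme.{u}} (U : X.Opens) (hU : IsClosed (U : Set X)) : IsClosedImmersion U.ι := by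
  refine IsClosedImmersion.of_isPreimmersion _ ?_
  rw [Scheme.Opens.range_ι]
  exact hU

/-- Two complementary opens. -/
theorem isIso_desc {X : Scheme.{u}} [IsReduced X] (U V : X.Opens) (hUV : U ⊔ V = ⊤) (hd : U ⊓ V = ⊥) :
    IsIso (coprod.desc U.ι V.ι) := by
  have hc : (U : Set X) = (V : Set X)ᶜ := by
    ext x
    constructor
    · intro hx hx'
      have : x ∈ U ⊓ V := ⟨hx, hx'⟩
      rw [hd] at this
      exact this
    · intro hx
      have : x ∈ U ⊔ V := by rw [hUV]; trivial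
      rcases this with h | h
      · exact h
      · exact absurd h hx
  have h1 := isClosedImmersion_ι U (by rw [hc]; exact V.isOpen.isClosed_compl)
  have h2 := isClosedImmersion_ι V (by rw [← compl_compl (V : Set X), ← hc]; exact U.isOpen.isClosed_compl)
  have h3 : IsClosedImmersion (coprod.desc U.ι V.ι) := by
    refine K429.LinEmb.isClosedImmersion_coprodDesc U.ι V.ι ?_
    rw [Scheme.Opens.range_ι, Scheme.Opens.range_ι, hc]
    exact disjoint_compl_left
  have h4 : Surjective (coprod.desc U.ι V.ι) := ⟨fun x => by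
    have : x ∈ U ⊔ V := by rw [hUV]; trivial
    rcases this with h | h
    · let x' : U.toScheme := ⟨x, h⟩
      refine ⟨(coprod.inl : U.toScheme ⟶ (U.toScheme ⨿ V.toScheme : Scheme.{u})) x', ?_⟩
      rw [← Scheme.Hom.comp_apply, coprod.inl_desc]
      rfl
    · let x' : V.toScheme := ⟨x, h⟩
      refine ⟨(coprod.inr : V.toScheme ⟶ (U.toScheme ⨿ V.toScheme : Scheme.{u})) x', ?_⟩
      rw [← Scheme.Hom.comp_apply, coprod.inr_desc]
      rfl⟩
  exact isIso_of_isClosedImmersion_of_surjective _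

/-- Transport of a glueing along an isomorphism of the source. -/
theorem isGl_of_iso {D C C' C₀ : Scheme.{u}} {σ τ : D ⟶ C} {ν : C ⟶ C'} (h : IsGl σ τ ν) (e : C₀ ⟶ C) [IsIso e]
    {σ₀ τ₀ : D ⟶ C₀} (h1 : σ₀ ≫ e = σ) (h2 : τ₀ ≫ e = τ) : IsGl σ₀ τ₀ (e ≫ ν) := by
  have hcl := h.closed
  have haff := h.isAffineHom
  have hb := h.ferr.affine_right
  have hd : coprod.desc σ₀ τ₀ ≫ e = coprod.desc σ τ := by
    apply coprod.hom_ext
    · rw [coprod.inl_desc_assoc, coprod.inl_desc, h1]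
    · rw [coprod.inr_desc_assoc, coprod.inr_desc, h2]
  have hd' : coprod.desc σ₀ τ₀ = coprod.desc σ τ ≫ inv e := by
    rw [← hd, Category.assoc, IsIso.hom_inv_id, Category.comp_id]
  have i1 : IsClosedImmersion (coprod.desc σ₀ τ₀) := by
    rw [hd']
    infer_instance
  have i3 : σ₀ ≫ e ≫ ν = σ ≫ ν := by rw [← Category.assoc, h1]
  have i2 : IsAffineHom (σ₀ ≫ e ≫ ν) := by rw [i3]; exact hb
  refine ⟨K838.Ferr.isFerr_of_isPushout ?_⟩
  rw [i3]
  refine IsPushout.of_iso h.isPushout (Iso.refl _) (asIso (inv e)) (Iso.refl _) (Iso.refl _) ?_ ?_ ?_ ?_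
  · simp [hd']
  · simp
  · simp
  · simp

section Conn

variable {X X' D : Scheme.{u}} {σ τ : D ⟶ X} {ν : X ⟶ X'}

/-- The piece containing one of the glued points is connected. -/
theorem connectedSpace_piece [Subsingleton D] (h : IsGl σ τ ν) [PreconnectedSpace X'] (d : D) (U : X.Opens)
    (hU : IsClosed (U : Set X)) (h1 : σ d ∈ U) (h2 : τ d ∉ U) : ConnectedSpace U.toScheme := by
  have hcl := isClosedImmersion_ι U hU
  have hne : Nonempty U.toScheme := ⟨⟨σ d, h1⟩⟩
  have hpre : PreconnectedSpace U.toScheme := by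
    rw [preconnectedSpace_iff_clopen]
    have key : ∀ V : Set U.toScheme, IsClopen V → σ d ∉ U.ι '' V → V = ∅ := by
      intro V hV hs
      have hV' : IsClopen (U.ι '' V) :=
        ⟨U.ι.isClosedEmbedding.isClosedMap _ hV.1, U.ι.isOpenEmbedding.isOpenMap _ hV.2⟩
      have ht : τ d ∉ U.ι '' V := by
        rintro ⟨v, -, hv⟩
        exact h2 (hv ▸ v.2)
      rcases eq_empty_or_univ h hV' (fun d' => by
        rw [Subsingleton.elim d' d]
        exact ⟨fun h3 => absurd h3 hs, fun h3 => absurd h3 ht⟩) with h3 | h3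
      · exact Set.image_eq_empty.mp h3
      · rw [h3] at hs
        exact absurd trivial hs
    intro V hV
    by_cases hs : σ d ∈ U.ι '' V
    · right
      rw [← compl_compl V, key Vᶜ hV.compl, Set.compl_empty]
      rintro ⟨v, hv, hv'⟩
      obtain ⟨w, hw, hw'⟩ := hs
      have : v = w := U.ι.isOpenEmbedding.injective (hv'.trans hw'.symm)
      exact hv (this ▸ hw)
    · exact Or.inl (key V hV hs)
  exact { toPreconnectedSpace := hpre, toNonempty := hne }

/-- If the unglued curve is not connected it splits in two pieces. -/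
theorem exists_split (h : IsGl σ τ ν) [Subsingleton D] [PreconnectedSpace X'] (d : D) (hc : ¬ ConnectedSpace X) :
    ∃ U V : X.Opens, IsClosed (U : Set X) ∧ IsClosed (V : Set X) ∧ U ⊔ V = ⊤ ∧ U ⊓ V = ⊥ ∧ σ d ∈ U ∧ τ d ∉ U ∧
      τ d ∈ V ∧ σ d ∉ V := by
  have hpre : ¬ PreconnectedSpace X := fun hp => hc { toPreconnectedSpace := hp, toNonempty := ⟨σ d⟩ }
  rw [preconnectedSpace_iff_clopen] at hpre
  push Not at hpre
  obtain ⟨U, hU, hne, hnu⟩ := hpre
  have h1 : ¬ (σ d ∈ U ↔ τ d ∈ U) := by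
    intro h1
    rcases eq_empty_or_univ h hU (fun d' => by rw [Subsingleton.elim d' d]; exact h1) with h2 | h2
    · exact hne.ne_empty h2
    · exact hnu h2
  have key : ∀ W : Set X, IsClopen W → σ d ∈ W → τ d ∉ W → ∃ U V : X.Opens, IsClosed (U : Set X) ∧
      IsClosed (V : Set X) ∧ U ⊔ V = ⊤ ∧ U ⊓ V = ⊥ ∧ σ d ∈ U ∧ τ d ∉ U ∧ τ d ∈ V ∧ σ d ∉ V := by
    intro W hW h2 h3
    refine ⟨⟨W, hW.2⟩, ⟨Wᶜ, hW.1.isOpen_compl⟩, hW.1, hW.2.isClosed_compl, ?_, ?_, h2, h3, h3, fun h4 => h4 h2⟩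
    · ext x
      simp only [Opens.coe_sup, Opens.coe_mk, Set.union_compl_self, Opens.coe_top]
    · ext x
      simp only [Opens.coe_inf, Opens.coe_mk, Set.inter_compl_self, Opens.coe_bot]
  by_cases h2 : σ d ∈ U
  · exact key U hU h2 fun h3 => h1 ⟨fun _ => h3, fun _ => h2⟩
  · refine key Uᶜ hU.compl h2 fun h3 => h3 ?_
    by_contra h4
    exact h1 ⟨fun h5 => absurd h5 h2, fun h5 => absurd h5 h4⟩

end Conn

/-- The Euler characteristic of a disjoint union. -/
theorem chi_split {k : Type u} [Field k] {X : Scheme.{u}} (q : X ⟶ Spec (CommRingCat.of k)) [IsProper q]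
    (U V : X.Opens) (hUV : U ⊔ V = ⊤) (hd : U ⊓ V = ⊥) :
    chi k q = chi k (U.ι ≫ q) + chi k (V.ι ≫ q) := by
  rw [chi_open, chi_open]
  let _ : X.Over (Spec (CommRingCat.of k)) := ⟨q⟩
  let _ : U.toScheme.Over (Spec (CommRingCat.of k)) := ⟨U.ι ≫ q⟩
  let _ : V.toScheme.Over (Spec (CommRingCat.of k)) := ⟨V.ι ≫ q⟩
  have hP' : IsProper (X ↘ Spec (CommRingCat.of k)) := ‹IsProper q›
  exact Vancyc.H241.CohSplit.euler_add U V k rfl rfl hUV hd (Fdesc.StructMod.isCoh_structureModule _)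

end K312.Split
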