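import Groth.Agent.CurvSt.K312.WS

/-!
# Stable pointed curves and marked nodal curves
-/

set_option autoImplicit false
universe u
open CategoryTheory CategoryTheory.Limits AlgebraicGeometry TopologicalSpace

namespace K312.Marks

open K312.Gl K312.GlNode K896.Trans Groth.Agent.CurvesB.DimOneTop

theorem unique_gen {X : Scheme.{u}} {x : X} [IsDomain (X.presheaf.stalk x)] {z z' : X} (hz : Gen z) (hz' : Gen z')
    (h : z ⤳ x) (h' : z' ⤳ x) : z = z' := by
  let p0 : Spec (X.presheaf.stalk x) := (⟨⊥, Ideal.isPrime_bot⟩ : PrimeSpectrum (X.presheaf.stalk x))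
  have key : ∀ w : X, Gen w → w ⤳ x → X.fromSpecStalk x p0 = w := by
    intro w hw hwx
    have h1 : w ∈ Set.range (X.fromSpecStalk x) := by rw [Scheme.range_fromSpecStalk]; exact hwx
    obtain ⟨p, rfl⟩ := h1
    refine hw _ (Specializes.map ?_ (X.fromSpecStalk x).continuous)
    exact (PrimeSpectrum.le_iff_specializes _ _).mp (bot_le : (⊥ : Ideal (X.presheaf.stalk x)) ≤ p.asIdeal)
  rw [← key z hz h, ← key z' hz' h']

theorem notMem_meetPts {X : Scheme.{u}} {x : X} [IsDomain (X.presheaf.stalk x)] {E : Set X}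
    (hE : E ∈ irreducibleComponents (X : Type u)) : x ∉ CurvSt.meetPts X E := by
  rintro ⟨hx, F, hF, hne, hxF⟩
  obtain ⟨z, hz, rfl⟩ := exists_gen hE
  obtain ⟨w, hw, rfl⟩ := exists_gen hF
  exact hne (by rw [unique_gen hw hz (specializes_iff_mem_closure.mpr hxF) (specializes_iff_mem_closure.mpr hx)])

/-- Pure one-dimensionality of connected Noetherian spaces of dimension one. -/
theorem pure_of_connected {T : Type*} [TopologicalSpace T] [QuasiSober T] [T0Space T] [NoetherianSpace T]
    [ConnectedSpace T] (h : topologicalKrullDim T = 1) : Pure T := by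
  obtain ⟨⟨a, b, hab, hne⟩, h2⟩ := topologicalKrullDim_eq_one_iff.mp h
  intro z hz
  constructor
  · by_contra hcon
    push Not at hcon
    have hcl : IsClosed ({z} : Set T) := by
      rw [← closure_eq_iff_isClosed]
      ext x
      rw [← specializes_iff_mem_closure]
      exact ⟨fun hx => hcon x hx, fun hx => by rw [Set.mem_singleton_iff.mp hx]⟩
    have hfin : (irreducibleComponents T).Finite := NoetherianSpace.finite_irreducibleComponents
    have hop : IsOpen ({z} : Set T) := by
      have h3 : ({z} : Set T)ᶜ = ⋃₀ (irreducibleComponents T \ {{z}}) := by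
        ext x
        constructor
        · intro hx
          refine ⟨irreducibleComponent x, ⟨irreducibleComponent_mem_irreducibleComponents x, fun h4 => hx ?_⟩,
            mem_irreducibleComponent⟩
          have h5 : x ∈ irreducibleComponent x := mem_irreducibleComponent
          rw [h4] at h5
          exact h5
        · rintro ⟨F, ⟨hF, hFz⟩, hx⟩ rfl
          obtain ⟨w, hw, rfl⟩ := exists_gen hF
          have h5 := hz w (specializes_iff_mem_closure.mpr hx)
          apply hFz
          rw [Set.mem_singleton_iff, h5, hcl.closure_eq]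
      have h4 : IsClosed (({z} : Set T)ᶜ) := by
        rw [h3, Set.sUnion_eq_biUnion]
        exact (hfin.subset Set.sdiff_subset).isClosed_biUnion fun F hF => isClosed_of_mem_irreducibleComponents F hF.1
      exact isClosed_compl_iff.mp h4
    have h5 : ({z} : Set T) = Set.univ := IsClopen.eq_univ ⟨hcl, hop⟩ ⟨z, rfl⟩
    have ha : a ∈ ({z} : Set T) := by rw [h5]; trivial
    have hb : b ∈ ({z} : Set T) := by rw [h5]; trivial
    exact hne (by rw [Set.mem_singleton_iff.mp ha, Set.mem_singleton_iff.mp hb])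
  · intro x hx hne' y hy
    rcases h2 x with h3 | h3
    · exact h3 y hy
    · exact absurd (h3 z hx).symm hne'

theorem topologicalKrullDim_of_pure {T : Type*} [TopologicalSpace T] [QuasiSober T] [T0Space T] [Nonempty T]
    (h : Pure T) : topologicalKrullDim T = 1 := by
  rw [topologicalKrullDim_eq_one_iff]
  constructor
  · obtain ⟨x⟩ := (inferInstance : Nonempty T)
    obtain ⟨z, hz, -⟩ := exists_generic_specializes x
    obtain ⟨⟨y, hy, hne⟩, -⟩ := h z hz
    exact ⟨z, y, hy, hne⟩
  · intro x
    obtain ⟨z, hz, hzx⟩ := exists_generic_specializes x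
    by_cases hx : x = z
    · right
      rw [hx]
      exact hz
    · left
      exact (h z hz).2 x hzx hx

theorem topologicalKrullDim_le_of_pure {T : Type*} [TopologicalSpace T] [QuasiSober T] [T0Space T]
    (h : Pure T) : topologicalKrullDim T ≤ 1 := by
  rcases isEmpty_or_nonempty T with h1 | h1
  · rw [topologicalKrullDim, Order.krullDim_eq_bot_iff.mpr]
    · exact bot_le
    · exact ⟨fun Z => by
        obtain ⟨z, -⟩ := Z.isIrreducible.nonempty
        exact h1.false z⟩
  · exact (topologicalKrullDim_of_pure h).le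

section

variable {k : Type u} [Field k] {X : Scheme.{u}} {q : X ⟶ Spec (CommRingCat.of k)}

theorem isNoetherian_of_proper (q : X ⟶ Spec (CommRingCat.of k)) [IsProper q] : IsNoetherian X := by
  have := LocallyOfFiniteType.isLocallyNoetherian q
  have : CompactSpace X := QuasiCompact.compactSpace_of_compactSpace q
  exact {}

/-- The number of special points. -/
theorem encard_Sp {n : ℕ} {x : Fin n → X} (hi : Function.Injective x)
    (hd : ∀ i, IsDomain (X.presheaf.stalk (x i))) {E : Set X} (hE : E ∈ irreducibleComponents (X : Type u)) :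
    (CurvSt.meetPts X E).encard + (Nat.card {i : Fin n // x i ∈ E} : ℕ∞) = (Sp X (Set.range x) E).encard := by
  have hdis : Disjoint (CurvSt.meetPts X E) (Set.range x ∩ E) := by
    rw [Set.disjoint_left]
    rintro _ h1 ⟨⟨i, rfl⟩, -⟩
    have := hd i
    exact notMem_meetPts hE h1
  rw [Sp, Set.encard_union_eq hdis]
  congr 1
  have h1 : Set.range x ∩ E = x '' {i | x i ∈ E} := by
    ext y
    constructor
    · rintro ⟨⟨i, rfl⟩, h⟩
      exact ⟨i, h, rfl⟩
    · rintro ⟨i, h, rfl⟩
      exact ⟨⟨i, rfl⟩, h⟩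
  rw [h1, hi.encard_image, ← (Set.toFinite {i | x i ∈ E}).cast_ncard_eq, ← Nat.card_coe_set_eq]
  rfl

theorem WS.isDomain {M : Set X} (h : WS k q M) {m : X} (hm : m ∈ M) : IsDomain (X.presheaf.stalk m) := by
  have := h.proper
  exact (pr_of_smAt (q := q) (pure_iff.mpr h.pure) (h.closed m hm) (h.sm m hm)).1

/-- Stable pointed curves as marked nodal curves. -/
theorem isStablePtd_iff [IsAlgClosed k] {g n : ℕ} {x : Fin n → X} :
    CurvSt.IsStablePtd k X q g x ↔ WS k q (Set.range x) ∧ Function.Injective x ∧ ConnectedSpace X ∧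
      @Curv2.genus k _ X ⟨q⟩ = g ∧ 3 ≤ 2 * g + n := by
  constructor
  · rintro ⟨h1, h2, h3, ⟨h4, h5⟩, h6, h7, h8, h9⟩
    have hN := isNoetherian_of_proper q
    have hpure : Pure X := pure_of_connected h3
    have hd : ∀ i, IsDomain (X.presheaf.stalk (x i)) := fun i =>
      (pr_of_smAt (q := q) (pure_iff.mpr hpure) (h7 i).1 (h7 i).2).1
    refine ⟨⟨h1, hpure, h4, ?_, ?_, fun E hE => ?_⟩, h6, h2, h5, h9⟩
    · rintro _ ⟨i, rfl⟩; exact (h7 i).1
    · rintro _ ⟨i, rfl⟩; exact (h7 i).2
    · rw [← encard_Sp h6 hd hE.1]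
      exact h8 E hE
  · rintro ⟨h1, h2, h3, h4, h5⟩
    have hd : ∀ i, IsDomain (X.presheaf.stalk (x i)) := fun i => h1.isDomain ⟨i, rfl⟩
    refine ⟨h1.proper, h3, topologicalKrullDim_of_pure h1.pure, ⟨h1.nodal, h4⟩, h2,
      fun i => ⟨h1.closed _ ⟨i, rfl⟩, h1.sm _ ⟨i, rfl⟩⟩, fun E hE => ?_, h5⟩
    rw [encard_Sp h2 hd hE.1]
    exact h1.comp E hE

end

end K312.Marks
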