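import Groth.Agent.CurvSt.K312.WS
import Groth.Agent.CurvSt.K312.Stab

/-!
# The converse of `WS.glue`: marked curves and the partial normalization at a node
-/

set_option autoImplicit false
universe u
open CategoryTheory CategoryTheory.Limits AlgebraicGeometry TopologicalSpace

namespace K312.Marks

open K312.Gl K312.GlNode K896.Trans

/-- A section with values in a closed subscheme. -/
theorem exists_factor {P C D : Scheme.{u}} (e : P ⟶ C) [IsClosedImmersion e] (s : D ⟶ C) [IsReduced D]
    (h : ∀ d, s d ∈ Set.range e) : ∃ s' : D ⟶ P, s' ≫ e = s := by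
  have h1 : IsClosedImmersion (pullback.snd e s) := inferInstance
  have h2 : Surjective (pullback.snd e s) := ⟨fun d => by
    obtain ⟨p, hp⟩ := h d
    obtain ⟨z, -, hz⟩ := Scheme.Pullback.exists_preimage_pullback p d hp
    exact ⟨z, hz⟩⟩
  have h3 : IsIso (pullback.snd e s) := isIso_of_isClosedImmersion_of_surjective _
  refine ⟨inv (pullback.snd e s) ≫ pullback.fst e s, ?_⟩
  rw [Category.assoc, pullback.condition, IsIso.inv_hom_id_assoc]

variable {k : Type u} [Field k] {X X' : Scheme.{u}} {q : X ⟶ Spec (CommRingCat.of k)}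
  {q' : X' ⟶ Spec (CommRingCat.of k)} {σ τ : Spec (CommRingCat.of k) ⟶ X} {ν : X ⟶ X'}

/-- A smooth rational component not containing both points maps to a smooth rational component. -/
theorem isSmRatComp_image (h : IsGl σ τ ν) (hoff : h.Off) (hq : ν ≫ q' = q) (d : Spec (CommRingCat.of k)) {E : Set X}
    (hE : CurvSt.IsSmRatComp k X q E) (hn : ¬ (σ d ∈ E ∧ τ d ∈ E)) : CurvSt.IsSmRatComp k X' q' (ν '' E) := by
  have hsub : Subsingleton (Spec (CommRingCat.of k)) := inferInstanceAs (Subsingleton (PrimeSpectrum k))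
  have hred : IsReduced (Spec (CommRingCat.of k)) := inferInstance
  obtain ⟨hE1, e, he, heq, hr⟩ := hE
  have hr' : Set.range e = E := hr
  have key : IsClosedImmersion (e ≫ ν) := by
    by_cases h1 : σ d ∈ E
    · have h2 : τ d ∉ E := fun h2 => hn ⟨h1, h2⟩
      obtain ⟨s, hs⟩ := exists_factor e σ (fun d' => by
        rw [Subsingleton.elim d' d, hr']
        exact h1)
      refine h.isClosedImmersion_comp e s hs fun p d' hp => h2 ?_
      rw [← hr', ← Subsingleton.elim d' d, ← hp]
      exact ⟨p, rfl⟩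
    · by_cases h2 : τ d ∈ E
      · obtain ⟨s, hs⟩ := exists_factor e τ (fun d' => by
          rw [Subsingleton.elim d' d, hr']
          exact h2)
        refine h.symm.isClosedImmersion_comp e s hs fun p d' hp => h1 ?_
        rw [← hr', ← Subsingleton.elim d' d, ← hp]
        exact ⟨p, rfl⟩
      · refine h.isClosedImmersion_comp' e (fun p d' hp => h1 ?_) (fun p d' hp => h2 ?_)
        · rw [← hr', ← Subsingleton.elim d' d, ← hp]
          exact ⟨p, rfl⟩
        · rw [← hr', ← Subsingleton.elim d' d, ← hp]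
          exact ⟨p, rfl⟩
  refine ⟨h.image_mem hoff hE1, e ≫ ν, key, by rw [Category.assoc, hq, heq], ?_⟩
  rw [← hr, ← Set.range_comp]
  congr 1

theorem Sp_image_subset (h : IsGl σ τ ν) (d : Spec (CommRingCat.of k)) (M' : Set X') {E : Set X} :
    Sp X' M' (ν '' E) ⊆ ν '' Sp X (ν ⁻¹' M' ∪ {σ d, τ d}) E := by
  have hsub : Subsingleton (Spec (CommRingCat.of k)) := inferInstanceAs (Subsingleton (PrimeSpectrum k))
  rintro _ (⟨⟨y, hy, rfl⟩, F', hF', hne, hF⟩ | ⟨hm, y, hy, rfl⟩)
  · obtain ⟨F, hF1, rfl⟩ := h.exists_preimage hF'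
    obtain ⟨z, hz, hzy⟩ := hF
    refine ⟨y, ?_, rfl⟩
    rcases h.apply_eq_iff.mp hzy with h1 | ⟨d', h1, -⟩ | ⟨d', h1, -⟩
    · left
      rw [h1] at hz
      exact ⟨hy, F, hF1, fun h2 => hne (by rw [h2]), hz⟩
    · right
      rw [Subsingleton.elim d' d] at h1
      exact ⟨Or.inr (Or.inl h1), hy⟩
    · right
      rw [Subsingleton.elim d' d] at h1
      exact ⟨Or.inr (Or.inr h1), hy⟩
  · exact ⟨y, Or.inr ⟨Or.inl hm, hy⟩, rfl⟩

theorem nodal_of_isGl (h : IsGl σ τ ν) [LocallyOfFiniteType q] [LocallyOfFiniteType q'] (hq : ν ≫ q' = q)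
    (hX' : @Curv2.AtWorstNodal k _ X' ⟨q'⟩) (d : Spec (CommRingCat.of k)) (hs1 : SmAt q (σ d)) (hs2 : SmAt q (τ d)) :
    @Curv2.AtWorstNodal k _ X ⟨q⟩ := by
  have hsub : Subsingleton (Spec (CommRingCat.of k)) := inferInstanceAs (Subsingleton (PrimeSpectrum k))
  intro y hy
  by_cases hyo : ν y ∈ h.off
  · obtain ⟨h1, h2⟩ := good_off h hq y hyo
    have hc : IsClosed ({ν y} : Set X') := by
      have := h.isClosedMap _ hy
      rwa [Set.image_singleton] at this
    rcases hX' (ν y) hc with h3 | h3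
    · exact Or.inl (h1.mpr h3)
    · exact Or.inr (h2.mpr h3)
  · rw [h.mem_off' d, not_not] at hyo
    rcases h.eq_or_eq hyo with rfl | rfl
    · exact Or.inl hs1
    · exact Or.inl hs2

/-- **The converse of `WS.glue`.** -/
theorem WS.unglue {M' : Set X'} (hX' : WS k q' M') (h : IsGl σ τ ν) (hoff : h.Off) (hq : ν ≫ q' = q)
    (d : Spec (CommRingCat.of k)) (hM' : ν (σ d) ∉ M') (hs1 : SmAt q (σ d)) (hs2 : SmAt q (τ d))
    (hE : ∀ E : Set X, CurvSt.IsSmRatComp k X q E → σ d ∈ E → τ d ∈ E →
      (3 : ℕ∞) ≤ (Sp X (ν ⁻¹' M' ∪ {σ d, τ d}) E).encard) : WS k q (ν ⁻¹' M' ∪ {σ d, τ d}) := by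
  have hsub : Subsingleton (Spec (CommRingCat.of k)) := inferInstanceAs (Subsingleton (PrimeSpectrum k))
  have hP' := hX'.proper
  have hfin := h.isFinite
  have hP : IsProper q := by rw [← hq]; infer_instance
  have hmoff : ∀ m, ν m ∈ M' → ν m ∈ h.off := by
    intro m hm
    rw [h.mem_off' d]
    intro h1
    exact hM' (h1 ▸ hm)
  have hclosed : ∀ m, ν m ∈ h.off → IsClosed ({ν m} : Set X') → IsClosed ({m} : Set X) := by
    intro m hm hc
    have h3 : ({m} : Set X) = ν ⁻¹' {ν m} := by
      ext x'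
      constructor
      · rintro rfl; rfl
      · intro hx'
        exact h.injective_off hm hx'
    rw [h3]
    exact hc.preimage ν.continuous
  refine ⟨hP, h.pure_of hX'.pure hoff, nodal_of_isGl h hq hX'.nodal d hs1 hs2, ?_, ?_, ?_⟩
  · rintro m (hm | rfl | rfl)
    · exact hclosed m (hmoff m hm) (hX'.closed _ hm)
    · exact h.isClosed_left d
    · exact h.isClosed_right d
  · rintro m (hm | rfl | rfl)
    · exact (good_off h hq m (hmoff m hm)).1.mpr (hX'.sm _ hm)
    · exact hs1
    · exact hs2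
  · intro E hE'
    by_cases hn : σ d ∈ E ∧ τ d ∈ E
    · exact hE E hE' hn.1 hn.2
    · refine (hX'.comp _ (isSmRatComp_image h hoff hq d hE' hn)).trans ?_
      exact (Set.encard_le_encard (Sp_image_subset h d M')).trans (Set.encard_image_le _ _)

section Conn

variable {D : Scheme.{u}} {σ τ : D ⟶ X}

/-- A clopen subset of the unglued curve not containing the glued points is empty or everything. -/
theorem eq_empty_or_univ (h : IsGl σ τ ν) [PreconnectedSpace X'] {U : Set X} (hU : IsClopen U)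
    (hm : ∀ d, σ d ∈ U ↔ τ d ∈ U) : U = ∅ ∨ U = Set.univ := by
  have h1 : ∀ y z, ν y = ν z → y ∈ U → z ∈ U := by
    intro y z hyz hy
    rcases h.apply_eq_iff.mp hyz with h1 | ⟨d, h1, h2⟩ | ⟨d, h1, h2⟩
    · rwa [← h1]
    · rw [h1]; rw [h2] at hy; exact (hm d).mpr hy
    · rw [h1]; rw [h2] at hy; exact (hm d).mp hy
  have h2 : IsClopen (ν '' U) := by
    refine ⟨h.isClosedMap _ hU.1, ?_⟩
    have h3 : ν '' U = (ν '' Uᶜ)ᶜ := by
      ext p
      constructor
      · rintro ⟨y, hy, rfl⟩ ⟨z, hz, hzy⟩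
        exact hz (h1 y z hzy.symm hy)
      · intro hp
        obtain ⟨y, rfl⟩ := h.surj p
        by_contra hy
        exact hp ⟨y, fun hyU => hy ⟨y, hyU, rfl⟩, rfl⟩
    rw [h3]
    exact (h.isClosedMap _ hU.2.isClosed_compl).isOpen_compl
  rcases isClopen_iff.mp h2 with h3 | h3
  · left
    exact Set.image_eq_empty.mp h3
  · right
    rw [Set.eq_univ_iff_forall]
    intro z
    obtain ⟨y, hy, hyz⟩ := (h3 ▸ Set.mem_univ (ν z) : ν z ∈ ν '' U)
    exact h1 y z hyz hy

end Conn

/-- A component without meeting points is clopen. -/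
theorem isClopen_of_meetPts {X : Scheme.{u}} [NoetherianSpace X] {E : Set X}
    (hE : E ∈ irreducibleComponents (X : Type u)) (h : CurvSt.meetPts X E = ∅) : IsClopen E := by
  refine ⟨isClosed_of_mem_irreducibleComponents E hE, ?_⟩
  have h1 : E = (⋃ F ∈ irreducibleComponents (X : Type u) \ {E}, F)ᶜ := by
    ext x
    simp only [Set.mem_compl_iff, Set.mem_iUnion, not_exists]
    constructor
    · intro hx F hF hxF
      have : x ∈ CurvSt.meetPts X E := ⟨hx, F, hF.1, fun h2 => hF.2 h2, hxF⟩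
      rw [h] at this
      exact this
    · intro hx
      by_contra hxE
      refine hx (irreducibleComponent x) ⟨irreducibleComponent_mem_irreducibleComponents x, fun h2 => hxE ?_⟩
        mem_irreducibleComponent
      rw [Set.mem_singleton_iff] at h2
      rw [← h2]
      exact mem_irreducibleComponent
  rw [h1]
  exact ((NoetherianSpace.finite_irreducibleComponents.subset Set.sdiff_subset).isClosed_biUnion
    fun F hF => isClosed_of_mem_irreducibleComponents F hF.1).isOpen_compl

/-- A component containing both glued points and at most those special points is everything. -/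
theorem eq_univ_of_both {M' : Set X'} [PreconnectedSpace X'] [NoetherianSpace X] (h : IsGl σ τ ν)
    (d : Spec (CommRingCat.of k)) {E : Set X} (hE : E ∈ irreducibleComponents (X : Type u)) (h1 : σ d ∈ E)
    (h2 : τ d ∈ E) [IsDomain (X.presheaf.stalk (σ d))] [IsDomain (X.presheaf.stalk (τ d))]
    (hc : ¬ (3 : ℕ∞) ≤ (Sp X (ν ⁻¹' M' ∪ {σ d, τ d}) E).encard) :
    E = Set.univ ∧ ∀ m ∈ M', m = ν (σ d) := by
  have hsub : Subsingleton (Spec (CommRingCat.of k)) := inferInstanceAs (Subsingleton (PrimeSpectrum k))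
  have hne := h.ne d d
  have key : ∀ x ∈ Sp X (ν ⁻¹' M' ∪ {σ d, τ d}) E, x = σ d ∨ x = τ d := by
    intro x hx
    by_contra hx'
    rw [not_or] at hx'
    apply hc
    have h3 : ({σ d, τ d, x} : Set X) ⊆ Sp X (ν ⁻¹' M' ∪ {σ d, τ d}) E := by
      rintro y (rfl | rfl | rfl)
      · exact Or.inr ⟨Or.inr (Or.inl rfl), h1⟩
      · exact Or.inr ⟨Or.inr (Or.inr rfl), h2⟩
      · exact hx
    refine le_trans ?_ (Set.encard_le_encard h3)
    rw [Set.encard_insert_of_notMem, Set.encard_insert_of_notMem, Set.encard_singleton]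
    · norm_num
    · exact fun h4 => hx'.2 h4.symm
    · rintro (h4 | h4)
      · exact hne h4
      · exact hx'.1 h4.symm
  have hm : CurvSt.meetPts X E = ∅ := by
    rw [Set.eq_empty_iff_forall_notMem]
    intro x hx
    rcases key x (Or.inl hx) with rfl | rfl
    · exact notMem_meetPts hE hx
    · exact notMem_meetPts hE hx
  have huniv : E = Set.univ := by
    rcases eq_empty_or_univ h (isClopen_of_meetPts hE hm) (fun d' => by
      rw [Subsingleton.elim d' d]
      exact ⟨fun _ => h2, fun _ => h1⟩) with h3 | h3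
    · rw [h3] at h1
      exact absurd h1 (Set.notMem_empty _)
    · exact h3
  refine ⟨huniv, fun m hm' => ?_⟩
  obtain ⟨y, rfl⟩ := h.surj m
  rcases key y (Or.inr ⟨Or.inl hm', by rw [huniv]; trivial⟩) with rfl | rfl
  · rfl
  · exact h.apply_eq d

end K312.Marks
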