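import Groth.Agent.CurvSt.K312.GlTop
import Groth.Agent.CurvSt.K312.GlSec
import Groth.Agent.CurvSt.K312.GlNode
import Groth.Agent.CurvSt.K312.GlBC
import Groth.Agent.CurvSt.K312.Lift
import Groth.Agent.Lefpen.H723.P1Flat
import Groth.Agent.CohqA.ProjDim

/-!
# Nodal curves with marks (possibly disconnected), the component condition, and glueing
-/

set_option autoImplicit false
universe u
open CategoryTheory CategoryTheory.Limits AlgebraicGeometry TopologicalSpace

namespace K312.Marks

open K312.Gl K312.GlNode K896.Trans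

/-- The special points on `E`. -/
def Sp (X : Scheme.{u}) (M E : Set X) : Set X := CurvSt.meetPts X E ∪ (M ∩ E)

/-- A (possibly disconnected) nodal curve with marks such that rational components have three special points. -/
structure WS (k : Type u) [Field k] {X : Scheme.{u}} (q : X ⟶ Spec (CommRingCat.of k)) (M : Set X) : Prop where
  proper : IsProper q
  pure : Pure X
  nodal : @Curv2.AtWorstNodal k _ X ⟨q⟩
  closed : ∀ m ∈ M, IsClosed ({m} : Set X)
  sm : ∀ m ∈ M, SmAt q m
  comp : ∀ E : Set X, CurvSt.IsSmRatComp k X q E → (3 : ℕ∞) ≤ (Sp X M E).encard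

variable {k : Type u} [Field k]

theorem isIntegral_P1 : IsIntegral (CohB1.ProjSpace 1 k) := inferInstance

theorem isNormal_P1 : Pi1.IsNormalScheme (CohB1.ProjSpace 1 k) := by
  intro y
  obtain ⟨h1, h2⟩ := Groth.Agent.Lefpen.H723.P1Flat.stalk_pid k y
  exact ⟨h1, inferInstance⟩

variable {X X' : Scheme.{u}} {q : X ⟶ Spec (CommRingCat.of k)}
  {q' : X' ⟶ Spec (CommRingCat.of k)} {σ τ : Spec (CommRingCat.of k) ⟶ X} {ν : X ⟶ X'}

/-- The image of a closed immersion from an irreducible scheme. -/
theorem range_eq_closure {P : Scheme.{u}} [IrreducibleSpace P] (e : P ⟶ X) [IsClosedImmersion e] :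
    Set.range e = closure {e (genericPoint P)} := by
  rw [← Set.image_univ, ← (genericPoint_spec P).def, ← Set.image_singleton]
  exact (e.isClosedEmbedding.isClosedMap.closure_image_eq_of_continuous e.continuous _).symm

section Lift

variable {D : Scheme.{u}} {σ τ : D ⟶ X} (h : IsGl σ τ ν) (hoff : h.Off) (hq : ν ≫ q' = q)
include hoff hq

/-- Rational components of the glued curve come from rational components. -/
theorem exists_comp {E' : Set X'} (hE' : CurvSt.IsSmRatComp k X' q' E') :
    ∃ E, CurvSt.IsSmRatComp k X q E ∧ ν '' E = E' ∧ Set.InjOn ν E := by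
  obtain ⟨hE, e', he', hq', hr⟩ := hE'
  have hint := isIntegral_P1 (k := k)
  let η := genericPoint (CohB1.ProjSpace 1 k)
  have h1 : closure {e' η} = E' := by rw [← hr]; exact (range_eq_closure e').symm
  have hgen : Gen (e' η) := gen_iff.mpr (by rw [h1]; exact hE)
  obtain ⟨z, hz, hz'⟩ := h.exists_gen_preimage hgen
  have hηoff : e' η ∈ h.off := by rw [← hz']; exact hoff z hz
  obtain ⟨e, he⟩ := h.exists_lift isNormal_P1 e' hηoff
  have haff := h.isAffineHom
  have hcl : IsClosedImmersion (e ≫ ν) := by rw [he]; exact he'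
  have hcl' : IsClosedImmersion e := IsClosedImmersion.of_comp e ν
  have hνe : ∀ p, ν (e p) = e' p := fun p => by rw [← Scheme.Hom.comp_apply, he]
  have hgen' : Gen (e η) := by
    intro y hy
    have h2 : ν y = ν (e η) := by
      rw [hνe]
      refine hgen _ ?_
      have := hy.map ν.continuous
      rwa [hνe] at this
    exact h.injective_off (by rw [hνe]; exact hηoff) h2
  refine ⟨Set.range e, ⟨?_, e, hcl', ?_, rfl⟩, ?_, ?_⟩
  · rw [range_eq_closure e]
    exact gen_iff.mp hgen'
  · rw [← hq, ← Category.assoc, he, hq']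
  · rw [← Set.range_comp, ← hr]
    congr 1
    ext p
    exact hνe p
  · rintro _ ⟨p, rfl⟩ _ ⟨p', rfl⟩ hpp
    rw [hνe, hνe] at hpp
    rw [e'.isClosedEmbedding.injective hpp]

end Lift

/-- **Glueing two marked points.** -/
theorem WS.glue {M : Set X} (hX : WS k q M) (h : IsGl σ τ ν) (hq : ν ≫ q' = q) (hσ : σ ≫ q = 𝟙 _)
    (_hτ : τ ≫ q = 𝟙 _) (d : Spec (CommRingCat.of k)) (ha : σ d ∈ M) (hb : τ d ∈ M) :
    WS k q' (ν '' (M \ {σ d, τ d})) := by
  have hsub : Subsingleton (Spec (CommRingCat.of k)) := inferInstanceAs (Subsingleton (PrimeSpectrum k))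
  have hP := hX.proper
  have hoff := h.off_of_pure hX.pure
  have hP' : IsProper q' := by
    have h1 : IsProper (ν ≫ q') := by rw [hq]; exact hP
    have h2 : IsProper (σ ≫ ν ≫ q') := by rw [hq, hσ]; infer_instance
    exact h.isProper q'
  have hpure' := pure_iff.mpr hX.pure
  have hmoff : ∀ m ∈ M \ {σ d, τ d}, ν m ∈ h.off := by
    rintro m ⟨-, hm⟩
    simp only [Set.mem_insert_iff, Set.mem_singleton_iff, not_or] at hm
    rw [h.mem_off_iff]
    intro d'
    rw [Subsingleton.elim d' d]
    exact hm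
  refine ⟨hP', h.pure hX.pure, ?_, ?_, ?_, ?_⟩
  · intro y hy
    by_cases hyo : y ∈ h.off
    · obtain ⟨x, rfl⟩ := h.surj y
      obtain ⟨h1, h2⟩ := good_off h hq x hyo
      have hx : IsClosed ({x} : Set X) := by
        have h3 : ({x} : Set X) = ν ⁻¹' {ν x} := by
          ext x'
          constructor
          · rintro rfl; rfl
          · intro hx'
            exact h.injective_off hyo hx'
        rw [h3]
        exact hy.preimage ν.continuous
      rcases hX.nodal x hx with h3 | h3
      · exact Or.inl (h1.mp h3)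
      · exact Or.inr (h2.mp h3)
    · right
      rw [h.mem_off' d, not_not] at hyo
      rw [hyo]
      exact isNode_pt h hq hσ d (pr_of_smAt hpure' (hX.closed _ ha) (hX.sm _ ha))
        (pr_of_smAt hpure' (hX.closed _ hb) (hX.sm _ hb))
  · rintro _ ⟨m, hm, rfl⟩
    have h1 := h.isClosedMap _ (hX.closed m hm.1)
    rwa [Set.image_singleton] at h1
  · rintro _ ⟨m, hm, rfl⟩
    exact (good_off h hq m (hmoff m hm)).1.mp (hX.sm m hm.1)
  · intro E' hE'
    obtain ⟨E, hE, rfl, hinj⟩ := exists_comp h hoff hq hE'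
    refine (hX.comp E hE).trans ?_
    have hSE : Sp X M E ⊆ E := Set.union_subset (fun x hx => hx.1) Set.inter_subset_right
    rw [← (hinj.mono hSE).encard_image]
    apply Set.encard_le_encard
    have key : ∀ x ∈ E, (∃ y, y ∉ E ∧ ν y = ν x) → ν x ∈ CurvSt.meetPts X' (ν '' E) := by
      rintro x hx ⟨y, hy, hxy⟩
      refine ⟨⟨x, hx, rfl⟩, ν '' irreducibleComponent y,
        h.image_mem hoff (irreducibleComponent_mem_irreducibleComponents y), ?_, ⟨y, mem_irreducibleComponent, hxy⟩⟩
      intro h1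
      have h2 := h.image_injOn hoff (irreducibleComponent_mem_irreducibleComponents y) hE.1 h1
      exact hy (h2 ▸ mem_irreducibleComponent)
    rintro _ ⟨x, hx | hx, rfl⟩
    · exact Or.inl (h.image_meetPts_subset hoff hE.1 ⟨x, hx, rfl⟩)
    · by_cases h1 : x ∈ ({σ d, τ d} : Set X)
      · left
        simp only [Set.mem_insert_iff, Set.mem_singleton_iff] at h1
        rcases h1 with rfl | rfl
        · refine key _ hx.2 ⟨τ d, fun h2 => h.ne d d (hinj hx.2 h2 (h.apply_eq d).symm), h.apply_eq d⟩
        · refine key _ hx.2 ⟨σ d, fun h2 => h.ne d d (hinj h2 hx.2 (h.apply_eq d).symm), (h.apply_eq d).symm⟩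
      · exact Or.inr ⟨⟨x, ⟨hx.1, h1⟩, rfl⟩, ⟨x, hx.2, rfl⟩⟩

end K312.Marks
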